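import Groth.Agent.L05.PtSeq.NormDominate
import Groth.Agent.L05.MinModel.Basic
import Groth.Agent.L05.CodimFlat.Finite
import Groth.Prelude.Def_ModelsG

/-!
# Extending the identity of the generic fibre to normal models
-/

set_option autoImplicit false
set_option linter.style.haveILetI false
set_option backward.isDefEq.respectTransparency false
set_option backward.isDefEq.respectTransparency.types false

universe u

open CategoryTheory CategoryTheory.Limits AlgebraicGeometry TopologicalSpace
open Groth.L05.MinModel (gen range_model isOpenImmersion_model eq_of_ne_closedPoint)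
open Groth.L05.PtSeq
open Groth.L05.MinDesing (IsBir)

noncomputable section

namespace Groth.L05.Models

variable {R : Type u} [CommRing R] [IsDomain R] [IsDiscreteValuationRing R]
  {C X : Scheme.{u}} {f : C ⟶ Spec (CommRingCat.of (FractionRing R))} {p : X ⟶ Spec (CommRingCat.of R)}
  {g : C ⟶ X}

/-- A model of a curve has dimension at most two. -/
theorem model_dim_le_two [IsIntegral X] [IsLocallyNoetherian X] [IsIntegral C] [LocallyOfFiniteType p]
    (hC : topologicalKrullDim C = 1) (hg : IsPullback g f p (gen R)) : topologicalKrullDim X ≤ 2 := by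
  haveI := isOpenImmersion_model hg
  have hgen : g (genericPoint C) = genericPoint X := genericPoint_eq_of_isOpenImmersion g
  have hnc : ∀ c : C, p (g c) ≠ IsLocalRing.closedPoint R := fun c => by
    have h : g c ∈ Set.range g := ⟨c, rfl⟩
    rw [range_model hg] at h
    exact h
  refine dim_le_of_stalks fun x => ?_
  have h := genericPoint_specializes x
  obtain ⟨A, B, n, N, hA, hB, -, hN', hle, -⟩ := Groth.L07.DimToolkit.formula p h
  rw [Groth.L07.DimToolkit.dim_locQuot_genericPoint x h] at hA
  have hB1 : B ≤ 1 := by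
    have h1 := (Groth.L07.DimToolkit.dim_locQuot_le (p x) (p (genericPoint X)) (h.map p.continuous)).trans
      (Groth.L15.CohFlat.ringKrullDim_stalk_le (p x))
    rw [hB, show topologicalKrullDim (Spec (CommRingCat.of R)) = 1 from
      (PrimeSpectrum.topologicalKrullDim_eq_ringKrullDim R).trans (IsDiscreteValuationRing.ringKrullDim_eq_one R)] at h1
    exact_mod_cast h1
  have hN1 : N ≤ 1 := by
    have hsub : closure ({genericPoint X} : Set X) ∩ p ⁻¹' {p (genericPoint X)} = Set.range g := by
      rw [genericPoint_closure, Set.univ_inter, range_model hg]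
      ext y
      refine ⟨fun (hy : p y = _) => ?_, fun (hy : p y ≠ _) => ?_⟩
      · show p y ≠ _
        rw [hy, ← hgen]; exact hnc _
      · exact eq_of_ne_closedPoint hy (hgen ▸ hnc (genericPoint C))
    have h1 : Groth.L07.Equidim.fdim p (genericPoint X) = 1 := by
      show topologicalKrullDim ↥(closure ({genericPoint X} : Set X) ∩ p ⁻¹' {p (genericPoint X)}) = 1
      rw [hsub, ← IsHomeomorph.topologicalKrullDim_eq _ g.isOpenEmbedding.isEmbedding.toHomeomorph.isHomeomorph]
      exact hC
    rw [hN'] at h1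
    exact_mod_cast h1.le
  rw [hA]
  exact_mod_cast (show A ≤ 2 by omega)

theorem isDominant_SpecMap {A B : CommRingCat.{u}} (j : A ⟶ B) (hj : Function.Injective j) :
    IsDominant (Spec.map j) := ⟨(PrimeSpectrum.denseRange_comap_iff_ker_le_nilRadical j.hom).2 (by
      rw [(RingHom.injective_iff_ker_eq_bot j.hom).1 hj]; exact bot_le)⟩

/-- The inclusion of the spectrum of the function field of the generic fibre. -/
theorem specMap_gen (iX : C ⟶ X) [IsIntegral C] {ξ : X} (h : iX (genericPoint C) ⤳ ξ) :
    Spec.map (X.presheaf.stalkSpecializes h ≫ iX.stalkMap (genericPoint C)) ≫ X.fromSpecStalk ξ =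
      C.fromSpecStalk (genericPoint C) ≫ iX := by
  rw [Spec.map_comp, Category.assoc, Scheme.SpecMap_stalkSpecializes_fromSpecStalk,
    Scheme.SpecMap_stalkMap_fromSpecStalk]

theorem closure_mem_fibreComponents (W : Over (Spec (CommRingCat.of R))) [IsIntegral W.left]
    (hd : topologicalKrullDim W.left ≤ 2) {η : W.left} (hη : ¬ IsClosed ({η} : Set W.left))
    (hs : η ∈ Models.specialFibreSet R W) (hgen : genericPoint W.left ∉ Models.specialFibreSet R W) :
    closure ({η} : Set W.left) ∈ Models.fibreComponents R W := by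
  have hF := Models.isClosed_specialFibreSet R W
  refine ⟨⟨isIrreducible_singleton.closure, closure_minimal (Set.singleton_subset_iff.2 hs) hF⟩, ?_⟩
  rintro S ⟨hS, hSF⟩ hle
  obtain ⟨w, hw⟩ := QuasiSober.sober hS.closure isClosed_closure
  have hwη : w ⤳ η := hw.specializes (subset_closure (hle (subset_closure rfl)))
  have hwF : w ∈ Models.specialFibreSet R W := closure_minimal hSF hF hw.mem
  rcases eq_or_ne w η with rfl | hne
  · rw [hw.def]; exact subset_closure
  obtain ⟨p, hp, hpη⟩ : ∃ p, η ⤳ p ∧ p ≠ η := by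
    by_contra h
    push Not at h
    exact hη (closure_subset_iff_isClosed.1 fun p hp => h p (specializes_iff_mem_closure.2 hp))
  have h1 := Groth.L03.BlowPt.Factor.dim_add_one_le (genericPoint_specializes w) fun h => hgen (h ▸ hwF)
  have h2 := Groth.L03.BlowPt.Factor.dim_add_one_le hwη hne
  have h3 := Groth.L03.BlowPt.Factor.dim_add_one_le hp hpη.symm
  rw [dim_stalk_genericPoint, zero_add] at h1
  have h4 := (Groth.L13.ModFibre.ringKrullDim_stalk_le_topologicalKrullDim p).trans hd
  exact absurd (((add_le_add ((add_le_add h1 le_rfl).trans h2) le_rfl).trans h3).trans h4) (by decide)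

/-- The extension theorem. -/
theorem exists_extend (XR WR : Over (Spec (CommRingCat.of R))) [IsIntegral XR.left] [IsIntegral WR.left]
    [IsIntegral C] (hC : topologicalKrullDim C = 1)
    (hXn : Pi1.IsNormalScheme XR.left) (hWn : Pi1.IsNormalScheme WR.left)
    [IsProper XR.hom] [IsProper WR.hom]
    (iX : C ⟶ XR.left) (hiX : IsPullback iX f XR.hom (gen R))
    (iW : C ⟶ WR.left) (hiW : IsPullback iW f WR.hom (gen R))
    (H : ∀ (ξ : WR.left) (hξ : iW.base (genericPoint C) ⤳ ξ),
      closure ({ξ} : Set WR.left) ∈ Models.fibreComponents R WR →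
        ∃ (ξ' : XR.left) (hξ' : iX.base (genericPoint C) ⤳ ξ'),
          closure ({ξ'} : Set XR.left) ∈ Models.fibreComponents R XR ∧
          Set.range ((iX.stalkMap (genericPoint C)).hom.comp (XR.left.presheaf.stalkSpecializes hξ').hom) =
            Set.range ((iW.stalkMap (genericPoint C)).hom.comp (WR.left.presheaf.stalkSpecializes hξ).hom)) :
    ∃ φ : XR ⟶ WR, iX ≫ φ.left = iW := by
  haveI := isOpenImmersion_model hiX
  haveI := isOpenImmersion_model hiW
  haveI : IsLocallyNoetherian XR.left := LocallyOfFiniteType.isLocallyNoetherian XR.hom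
  haveI : CompactSpace XR.left := QuasiCompact.compactSpace_of_compactSpace XR.hom
  haveI : IsLocallyNoetherian WR.left := LocallyOfFiniteType.isLocallyNoetherian WR.hom
  haveI : CompactSpace WR.left := QuasiCompact.compactSpace_of_compactSpace WR.hom
  haveI : AlgebraicGeometry.IsNoetherian XR.left := ⟨⟩
  haveI : AlgebraicGeometry.IsNoetherian WR.left := ⟨⟩
  haveI : IsIntegral (Spec (CommRingCat.of R)) := inferInstance
  have hdX := model_dim_le_two hC hiX
  have hdW := model_dim_le_two hC hiW
  have hgX : iX (genericPoint C) = genericPoint XR.left := genericPoint_eq_of_isOpenImmersion iX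
  have hgW : iW (genericPoint C) = genericPoint WR.left := genericPoint_eq_of_isOpenImmersion iW
  let UX : XR.left.Opens := iX.opensRange
  let V : WR.left.Opens := iW.opensRange
  let φ₀ : (UX : Scheme.{u}) ⟶ WR.left := iX.isoOpensRange.inv ≫ iW
  have hφ : φ₀ ≫ WR.hom = UX.ι ≫ XR.hom := by
    show (iX.isoOpensRange.inv ≫ iW) ≫ WR.hom = _
    rw [Category.assoc, hiW.w, ← hiX.w, ← Category.assoc, Scheme.Hom.isoOpensRange_inv_comp]
  have hUne : (UX : Set XR.left).Nonempty := ⟨_, ⟨genericPoint C, rfl⟩⟩
  obtain ⟨Γ, ι, hΓi, hι, hqU, s, hsq, hsψ⟩ := exists_graph_closed XR.hom WR.hom UX hUne φ₀ hφ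
  haveI := hΓi; haveI := hι
  let q := ι ≫ pullback.fst XR.hom WR.hom
  let ψ := ι ≫ pullback.snd XR.hom WR.hom
  haveI : IsProper (pullback.fst XR.hom WR.hom) := MorphismProperty.pullback_fst (P := @IsProper) _ _ inferInstance
  haveI : IsProper (pullback.snd XR.hom WR.hom) := MorphismProperty.pullback_snd (P := @IsProper) _ _ inferInstance
  haveI : IsProper q := inferInstance
  haveI : IsProper ψ := inferInstance
  haveI : IsLocallyNoetherian Γ := LocallyOfFiniteType.isLocallyNoetherian q
  haveI : CompactSpace Γ := QuasiCompact.compactSpace_of_compactSpace q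
  haveI : AlgebraicGeometry.IsNoetherian Γ := ⟨⟩
  have hcomm : ψ ≫ WR.hom = q ≫ XR.hom := by
    show (ι ≫ pullback.snd XR.hom WR.hom) ≫ WR.hom = (ι ≫ pullback.fst XR.hom WR.hom) ≫ XR.hom
    rw [Category.assoc, Category.assoc, pullback.condition]
  change s ≫ q = UX.ι at hsq
  change s ≫ ψ = φ₀ at hsψ
  haveI : IsIso (q ∣_ UX) := hqU
  have hqbir : IsBir q := ⟨UX, hUne, hqU⟩
  let c : C ⟶ Γ := iX.isoOpensRange.hom ≫ s
  have hcq : c ≫ q = iX := by
    show (iX.isoOpensRange.hom ≫ s) ≫ q = iX
    rw [Category.assoc, hsq]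
    exact iX.isoOpensRange_hom_ι
  have hcψ : c ≫ ψ = iW := by
    show (iX.isoOpensRange.hom ≫ s) ≫ ψ = iW
    rw [Category.assoc, hsψ]
    exact iX.isoOpensRange.hom_inv_id_assoc iW
  -- the graph is an isomorphism over the generic fibre of the target
  have hrs : Set.range s ⊆ Set.range (q ⁻¹ᵁ UX).ι := by
    rintro _ ⟨x, rfl⟩
    rw [Scheme.Opens.range_ι]
    show q (s x) ∈ UX
    rw [← Scheme.Hom.comp_apply, hsq]
    exact x.2
  let s₁ := IsOpenImmersion.lift (q ⁻¹ᵁ UX).ι s hrs
  have hs₁ : s₁ ≫ (q ⁻¹ᵁ UX).ι = s := IsOpenImmersion.lift_fac _ _ _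
  have h1 : s₁ ≫ (q ∣_ UX) = 𝟙 _ := by
    rw [← cancel_mono UX.ι, Category.assoc, morphismRestrict_ι, reassoc_of% hs₁, hsq, Category.id_comp]
  have hqι : (q ⁻¹ᵁ UX).ι = (q ∣_ UX) ≫ s := by
    rw [← hs₁, ← Category.assoc, show s₁ = inv (q ∣_ UX) from IsIso.eq_inv_of_inv_hom_id h1, IsIso.hom_inv_id,
      Category.id_comp]
  have hopen : ψ ⁻¹ᵁ V = q ⁻¹ᵁ UX := by
    ext a
    show ψ a ∈ Set.range iW ↔ q a ∈ Set.range iX
    rw [range_model hiW, range_model hiX]
    show WR.hom (ψ a) ≠ _ ↔ XR.hom (q a) ≠ _
    rw [← Scheme.Hom.comp_apply, hcomm, Scheme.Hom.comp_apply]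
  have hψV : IsIso (ψ ∣_ V) := by
    have e : ψ ∣_ V = (Γ.isoOfEq hopen).hom ≫ (q ∣_ UX) ≫ iX.isoOpensRange.inv ≫ iW.isoOpensRange.hom := by
      rw [← cancel_mono V.ι, morphismRestrict_ι, ← Scheme.isoOfEq_hom_ι Γ hopen, Category.assoc, Category.assoc,
        Category.assoc, Category.assoc, hqι, Category.assoc, hsψ, show iW.isoOpensRange.hom ≫ V.ι = iW from iW.isoOpensRange_hom_ι]
    rw [e]; infer_instance
  haveI := hψV
  have hψbir : IsBir ψ := ⟨V, ⟨_, ⟨genericPoint C, rfl⟩⟩, hψV⟩
  obtain ⟨eψ, hψiso⟩ := birational_data ψ hψbir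
  haveI := hψiso
  obtain ⟨Vψ, hVψiso, -, hVψ⟩ := Groth.Agent.S11555.result ψ hWn eψ
    (ConcreteCategory.bijective_of_isIso (ψ.stalkMap (genericPoint Γ)))
  haveI := hVψiso
  obtain ⟨eq, hqiso⟩ := birational_data q hqbir
  haveI := hqiso
  obtain ⟨Vq, hVqiso, -, hVq⟩ := Groth.Agent.S11555.result q hXn eq
    (ConcreteCategory.bijective_of_isIso (q.stalkMap (genericPoint Γ)))
  haveI := hVqiso
  have hfib : ∀ z : XR.left, (q ⁻¹' {z}).Finite := by
    intro z
    by_cases hzV : z ∈ Vq
    · refine Set.Subsingleton.finite fun a ha b hb => ?_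
      exact Groth.L05.RelMinExists.eq_of_isIso_restrict' q Vq (by rw [show q a = z from ha]; exact hzV) (ha.trans hb.symm)
    have hzc : IsClosed ({z} : Set XR.left) := closure_subset_iff_isClosed.1 fun d hd' =>
      Groth.L05.RelMinExists.eq_of_dim_two_le hdX (hVq z hzV) (specializes_iff_mem_closure.2 hd')
    refine (finite_isolated (hzc.preimage q.continuous)).subset fun w hw => ⟨hw, fun v hv hvw => ?_⟩
    by_contra hne
    have hvc : ¬ IsClosed ({v} : Set Γ) := fun h => hne (hvw.mem_closed h rfl).symm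
    have hqv : q v = z := hv
    have hzU : z ∉ UX := fun hzU => hne
      (Groth.L05.RelMinExists.eq_of_isIso_restrict' q UX (by rw [hqv]; exact hzU)
        (hqv.trans (show q w = z from hw).symm))
    have hzs : XR.hom z = IsLocalRing.closedPoint R := by
      by_contra h
      refine hzU ?_
      show z ∈ Set.range iX
      rw [range_model hiX]; exact h
    let η := ψ v
    have hηs : η ∈ Models.specialFibreSet R WR := by
      show WR.hom (ψ v) = IsLocalRing.closedPoint R
      rw [← Scheme.Hom.comp_apply, hcomm, Scheme.Hom.comp_apply, hqv, hzs]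
    have hηc : ¬ IsClosed ({η} : Set WR.left) := fun h => by
      refine hvc ?_
      have h' := isClosed_of_both_closed XR.hom WR.hom (m := ι v) (by
          show IsClosed ({q v} : Set XR.left)
          rw [hqv]; exact hzc) (by
          show IsClosed ({XR.hom (q v)} : Set (Spec (CommRingCat.of R)))
          rw [hqv, hzs]; exact IsLocalRing.isClosed_singleton_closedPoint R) h
      have h'' := h'.preimage ι.continuous
      rwa [show ι ⁻¹' {ι v} = {v} from Set.ext fun a =>
        ⟨fun e => ι.isClosedEmbedding.injective e, fun e => congrArg ι e⟩] at h''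
    have hgs : genericPoint WR.left ∉ Models.specialFibreSet R WR := fun h => by
      have h' : genericPoint WR.left ∈ Set.range iW := ⟨_, hgW⟩
      rw [range_model hiW] at h'
      exact h' h
    obtain ⟨ξ', hξ', -, hrange⟩ :=
      H η (by rw [hgW]; exact genericPoint_specializes η) (closure_mem_fibreComponents WR hdW hηc hηs hgs)
    haveI := valuation_stalk hdW hWn hηc
    let L := C.presheaf.stalk (genericPoint C)
    let jW : WR.left.presheaf.stalk η ⟶ L :=
      WR.left.presheaf.stalkSpecializes (show iW (genericPoint C) ⤳ η by rw [hgW]; exact genericPoint_specializes η) ≫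
        iW.stalkMap (genericPoint C)
    let jX : XR.left.presheaf.stalk ξ' ⟶ L := XR.left.presheaf.stalkSpecializes hξ' ≫ iX.stalkMap (genericPoint C)
    have hjW : Function.Injective jW := (ConcreteCategory.bijective_of_isIso (iW.stalkMap (genericPoint C))).1.comp
      (Groth.L05.CodimFlat.stalkSpecializes_injective _ hgW)
    have hjX : Function.Injective jX := (ConcreteCategory.bijective_of_isIso (iX.stalkMap (genericPoint C))).1.comp
      (Groth.L05.CodimFlat.stalkSpecializes_injective _ hgX)
    have hr : jX.hom.range = jW.hom.range := SetLike.coe_injective hrange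
    let e : (XR.left.presheaf.stalk ξ') ≃+* (WR.left.presheaf.stalk η) :=
      ((RingEquiv.ofBijective jX.hom.rangeRestrict ⟨fun a b h => hjX (congrArg Subtype.val h),
          jX.hom.rangeRestrict_surjective⟩).trans (RingEquiv.subringCongr hr)).trans
        (RingEquiv.ofBijective jW.hom.rangeRestrict ⟨fun a b h => hjW (congrArg Subtype.val h),
          jW.hom.rangeRestrict_surjective⟩).symm
    have hej : e.toCommRingCatIso.hom ≫ jW = jX := by
      ext a
      exact congrArg Subtype.val ((RingEquiv.ofBijective jW.hom.rangeRestrict ⟨fun a b h => hjW (congrArg Subtype.val h),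
          jW.hom.rangeRestrict_surjective⟩).apply_symm_apply
          ((RingEquiv.subringCongr hr) ((RingEquiv.ofBijective jX.hom.rangeRestrict ⟨fun a b h => hjX (congrArg Subtype.val h),
          jX.hom.rangeRestrict_surjective⟩) a)))
    obtain ⟨τ₀, hτ₀, -⟩ := exists_val_lift (O := ↑(WR.left.presheaf.stalk η)) ψ hψbir (WR.left.fromSpecStalk η)
      (genericPoint_fromSpecStalk η)
    have hp' : WR.left.fromSpecStalk η (IsLocalRing.closedPoint (WR.left.presheaf.stalk η)) = η :=
      Scheme.fromSpecStalk_closedPoint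
    have hηV : η ∈ Vψ := by
      by_contra hn
      exact hηc (closure_subset_iff_isClosed.1 fun d hd' =>
        Groth.L05.RelMinExists.eq_of_dim_two_le hdW (hVψ η hn) (specializes_iff_mem_closure.2 hd'))
    have hτv : τ₀ (IsLocalRing.closedPoint (WR.left.presheaf.stalk η)) = v := by
      refine Groth.L05.RelMinExists.eq_of_isIso_restrict' ψ Vψ ?_ ?_
      · rw [← Scheme.Hom.comp_apply, hτ₀]; exact (congrArg (fun x => x ∈ Vψ) hp').mpr hηV
      · rw [← Scheme.Hom.comp_apply, hτ₀]; exact hp'
    let σ₂ : Spec (WR.left.presheaf.stalk η) ⟶ XR.left := Spec.map e.toCommRingCatIso.hom ≫ XR.left.fromSpecStalk ξ'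
    haveI : IsDominant (Spec.map jW) := isDominant_SpecMap jW hjW
    have hW1 : Spec.map jW ≫ WR.left.fromSpecStalk η = C.fromSpecStalk (genericPoint C) ≫ iW :=
      specMap_gen iW (show iW (genericPoint C) ⤳ η by rw [hgW]; exact genericPoint_specializes η)
    have hX1 : Spec.map jX ≫ XR.left.fromSpecStalk ξ' = C.fromSpecStalk (genericPoint C) ≫ iX := specMap_gen iX hξ'
    have hk : Spec.map jW ≫ τ₀ = C.fromSpecStalk (genericPoint C) ≫ c := by
      haveI : Subsingleton ↥(Spec L) := inferInstanceAs (Subsingleton (PrimeSpectrum C.functionField))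
      refine val_lift_unique (O := ↑L) ψ hψbir _ _ ?_ ?_
      · exact ((Category.assoc _ _ _).trans ((congrArg (Spec.map jW ≫ ·) hτ₀).trans hW1)).trans
          (((Category.assoc _ _ _).trans (congrArg (C.fromSpecStalk (genericPoint C) ≫ ·) hcψ)).symm)
      · rw [← Scheme.Hom.comp_apply, Category.assoc, hτ₀, hW1, Scheme.Hom.comp_apply, ← hgW]
        refine congrArg iW ?_
        exact (congrArg (C.fromSpecStalk (genericPoint C))
          (@Subsingleton.elim ↥(Spec L) _ _ (IsLocalRing.closedPoint L))).trans Scheme.fromSpecStalk_closedPoint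
    haveI : XR.left.IsSeparated := ⟨by rw [← terminal.comp_from XR.hom]; infer_instance⟩
    have hττ : τ₀ ≫ q = σ₂ := by
      refine ext_of_isDominant (ι := Spec.map jW) ?_
      show Spec.map jW ≫ τ₀ ≫ q = Spec.map jW ≫ Spec.map e.toCommRingCatIso.hom ≫ XR.left.fromSpecStalk ξ'
      rw [← Category.assoc, hk, Category.assoc, hcq, ← Category.assoc (Spec.map jW), ← Spec.map_comp, hej, hX1]
    have hξz : ξ' = z := by
      have h1 : σ₂ (IsLocalRing.closedPoint (WR.left.presheaf.stalk η)) = ξ' := by
        haveI : IsLocalHom e.toCommRingCatIso.hom.hom :=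
          ⟨fun a ha => e.symm_apply_apply a ▸ (ha.map e.symm)⟩
        show XR.left.fromSpecStalk ξ' (Spec.map e.toCommRingCatIso.hom (IsLocalRing.closedPoint (WR.left.presheaf.stalk η))) = ξ'
        rw [Spec_closedPoint]
        exact Scheme.fromSpecStalk_closedPoint
      rw [← h1, ← hττ, Scheme.Hom.comp_apply]
      exact (congrArg q hτv).trans hqv
    subst hξz
    obtain ⟨d, hd, hdη⟩ : ∃ d, η ⤳ d ∧ d ≠ η := by
      by_contra h
      push Not at h
      exact hηc (closure_subset_iff_isClosed.1 fun p hp => h p (specializes_iff_mem_closure.2 hp))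
    have h1 := (Groth.L03.BlowPt.Factor.dim_add_one_le hd hdη.symm).trans
      ((Groth.L13.ModFibre.ringKrullDim_stalk_le_topologicalKrullDim d).trans hdW)
    rw [← ringKrullDim_eq_of_ringEquiv e] at h1
    exact absurd ((add_le_add (hVq _ hzV) le_rfl).trans h1) (by decide)
  haveI : LocallyQuasiFinite q := LocallyQuasiFinite.of_finite_preimage_singleton _ hfib
  haveI : IsFinite q := IsFinite.of_isProper_of_locallyQuasiFinite _
  haveI : IsIso q := Groth.L21.isIso_of_isFinite_of_normal q hXn eq hqiso
  refine ⟨Over.homMk (inv q ≫ ψ) ?_, ?_⟩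
  · rw [Category.assoc, hcomm, IsIso.inv_hom_id_assoc]
  · show iX ≫ inv q ≫ ψ = iW
    conv_lhs => rw [← hcq]
    rw [Category.assoc, IsIso.hom_inv_id_assoc, hcψ]

end Groth.L05.Models
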