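import Groth.Agent.S4702
import Groth.Agent.L12.CurveFam.ConstFun
import Groth.Agent.L21.PlaneCurve.Plane
import Groth.Agent.L21.Curve.NormalConnected
import Groth.Agent.L05.InterPair.Vertical
import Groth.Agent.L08.Cube.SmoothStalk
import Groth.Prelude.Def_ModelsG

/-!
# The generic fibre of a regular model whose closed fibre consists of curves is a curve
-/

set_option autoImplicit false
set_option backward.isDefEq.respectTransparency false
set_option linter.style.haveILetI false
set_option linter.unusedSectionVars false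
universe u

open CategoryTheory CategoryTheory.Limits AlgebraicGeometry

namespace Groth.L05.Models.CurveFacts

open Groth.L05.FibreDecomp

theorem isCurve (R : Type u) [CommRing R] [IsDomain R] [IsDiscreteValuationRing R]
    (C : Scheme.{u}) (fC : C ⟶ (Spec (CommRingCat.of (FractionRing R)))) [IsProper fC] [Smooth fC]
    (hC0 : Models.hRank (FractionRing R) C fC (Coh.structureModule C) 0 = 1)
    (X : Scheme.{u}) (p : X ⟶ (Spec (CommRingCat.of R))) (hX : Models.IsRegularProperModel R X p C fC)
    {n : ℕ} (Γ : Fin n → ArSurf.VertComp R (Over.mk p)) (hΓ : Models.IsComponentList R (Over.mk p) Γ)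
    (i₀ : Fin n) :
    Curve.IsSmoothProperCurve (FractionRing R) C fC ∧ IsIso fC.appTop := by
  classical
  obtain ⟨⟨hflat, hft, -, j, hj⟩, hproper, hreg⟩ := hX
  letI : C.Over (Spec (CommRingCat.of (FractionRing R))) := ⟨fC⟩
  haveI : IsProper (C ↘ Spec (CommRingCat.of (FractionRing R))) := ‹IsProper fC›
  haveI : ConnectedSpace C := Groth.L21.PlaneCurve.connectedSpace_of_h0_eq_one (k := FractionRing R) hC0
  haveI := Groth.L21.RR.isNoetherian_of_proper (X := C) (FractionRing R)
  haveI hCint : IsIntegral C := Groth.L21.NormalTotal.isIntegral_of_connected fun c => by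
    haveI := Groth.L08.Cube.isRegularLocalRing_of_smooth fC c
    exact Groth.L01.isDomain_of_regular _
  have hH0 : IsIso fC.appTop := by
    haveI : IsIso ((Scheme.ΓSpecIso (CommRingCat.of (FractionRing R))).inv ≫ fC.appTop) :=
      (ConcreteCategory.isIso_iff_bijective _).2 (Groth.L12.CurveFam.bijective_toGlobal_of_hRank fC hC0)
    exact IsIso.of_isIso_comp_left (Scheme.ΓSpecIso (CommRingCat.of (FractionRing R))).inv fC.appTop
  haveI : Flat (Over.mk p).hom := hflat
  haveI : IsProper (Over.mk p).hom := hproper
  haveI : IsLocallyNoetherian (Over.mk p).left := LocallyOfFiniteType.isLocallyNoetherian p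
  haveI : IsIntegral (Over.mk p).left := Groth.L05.InterPair.isIntegral_of_model (X := Over.mk p) hreg hj
  have hdimC : topologicalKrullDim C = 1 := by
    haveI : IsDomain (CommRingCat.of R) := inferInstanceAs (IsDomain R)
    haveI : IsNoetherianRing (CommRingCat.of R) := inferInstanceAs (IsNoetherianRing R)
    haveI : IrreducibleSpace X := inferInstanceAs (IrreducibleSpace (Over.mk p).left)
    have hY : topologicalKrullDim (Spec (CommRingCat.of R)) = 1 :=
      (PrimeSpectrum.topologicalKrullDim_eq_ringKrullDim R).trans (IsDiscreteValuationRing.ringKrullDim_eq_one R)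
    let jK : Spec (CommRingCat.of (FractionRing R)) ⟶ Spec (CommRingCat.of R) :=
      Spec.map (CommRingCat.ofHom (algebraMap R (FractionRing R)))
    let η : Spec (CommRingCat.of R) := genericPoint (Spec (CommRingCat.of R))
    haveI : Subsingleton (Spec (CommRingCat.of (FractionRing R))) :=
      inferInstanceAs (Subsingleton (PrimeSpectrum (FractionRing R)))
    have hη : ∀ z : Spec (CommRingCat.of (FractionRing R)), jK z = η := fun z => by
      show jK z = genericPoint (Spec (CommRingCat.of R))
      rw [genericPoint_eq_bot_of_affine]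
      refine PrimeSpectrum.ext ?_
      show Ideal.comap (algebraMap R (FractionRing R)) z.asIdeal = ⊥
      rw [(Ideal.eq_bot_or_top z.asIdeal).resolve_right z.2.ne_top, Ideal.comap_bot_of_injective]
      exact IsFractionRing.injective R (FractionRing R)
    have hp : DenseRange p.base := by
      refine dense_iff_closure_eq.2 (Set.eq_univ_of_univ_subset ?_)
      rw [← (genericPoint_spec (Spec (CommRingCat.of R))).def]
      refine closure_mono (Set.singleton_subset_iff.2 ⟨j (genericPoint C), ?_⟩)
      rw [← Scheme.Hom.comp_apply, hj.w, Scheme.Hom.comp_apply]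
      exact hη _
    have hrange : Set.range j = p ⁻¹' {η} := by
      have hr : Set.range jK = {η} := by
        ext z
        exact ⟨fun ⟨a, ha⟩ => ha ▸ hη a, fun hz => ⟨fC (genericPoint C), (hη _).trans hz.symm⟩⟩
      rw [← hr, ← Scheme.Pullback.range_fst, ← hj.isoPullback_hom_fst, Scheme.Hom.comp_base,
        TopCat.coe_comp, Set.range_comp, Set.range_eq_univ.2 hj.isoPullback.hom.surjective, Set.image_univ]
    have hjemb : Topology.IsEmbedding j := by
      obtain ⟨ϖ, hϖ⟩ := IsDiscreteValuationRing.exists_irreducible R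
      haveI := (Groth.L05.InterPair.isOpenImmersion_generic R hϖ).1
      haveI : IsOpenImmersion j := MorphismProperty.of_isPullback (P := @IsOpenImmersion) hj.flip inferInstance
      exact j.isOpenEmbedding.isEmbedding
    let y : Spec (CommRingCat.of R) := IsLocalRing.closedPoint R
    let T := Models.specialFibreSet R (Over.mk p)
    let S : Set X := Set.range ((Γ i₀).ι.base : (Γ i₀).curve.left → X)
    have hS : S ∈ Models.fibreComponents R (Over.mk p) := hΓ.2 ▸ ⟨i₀, rfl⟩
    have hST : S ⊆ p ⁻¹' {y} := hS.1.2
    have he := (p.fiberι y).isEmbedding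
    have her : Set.range (p.fiberι y) = p ⁻¹' {y} := p.range_fiberι y
    let Z : Set (p.fiber y) := (p.fiberι y) ⁻¹' S
    have himg : (p.fiberι y) '' Z = S :=
      Set.image_preimage_eq_of_subset (her ▸ hST)
    have hZ : Z ∈ irreducibleComponents (p.fiber y) := by
      refine ⟨⟨(hS.1.1.nonempty.preimage' (her ▸ hST)), ?_⟩, fun W hW hle => ?_⟩
      · intro u v hu hv
        rintro ⟨a, haS, hau⟩ ⟨b, hbS, hbv⟩
        obtain ⟨u', hu', rfl⟩ := he.isInducing.isOpen_iff.1 hu
        obtain ⟨v', hv', rfl⟩ := he.isInducing.isOpen_iff.1 hv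
        obtain ⟨c, hcS, hcu, hcv⟩ := hS.1.1.2 u' v' hu' hv' ⟨_, haS, hau⟩ ⟨_, hbS, hbv⟩
        obtain ⟨d, rfl⟩ := (her ▸ hST) hcS
        exact ⟨d, hcS, hcu, hcv⟩
      have h := hS.2 ⟨hW.image _ (p.fiberι y).continuous.continuousOn,
        (Set.image_subset_range _ _).trans her.le⟩ (himg ▸ Set.image_mono hle)
      exact fun w hw => h ⟨w, hw, rfl⟩
    have hyr : y ∈ Set.range p.base := by
      obtain ⟨c, hc⟩ : S.Nonempty := hS.1.1.nonempty
      exact ⟨c, hST hc⟩
    have h := Groth.Agent.S4702.result p hY hp y hyr Z hZ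
    have h1 : topologicalKrullDim Z = 1 := by
      let eZ : Z ≃ₜ S := (he.comp Topology.IsEmbedding.subtypeVal).toHomeomorph.trans
        (Homeomorph.setCongr (by rw [Set.range_comp, Subtype.range_coe]; exact himg))
      let eS : (Γ i₀).curve.left ≃ₜ S := (Γ i₀).ι.isClosedEmbedding.isEmbedding.toHomeomorph
      rw [IsHomeomorph.topologicalKrullDim_eq _ (eZ.trans eS.symm).isHomeomorph]
      exact (Γ i₀).dim_eq
    rw [h1] at h
    let eC : C ≃ₜ p.fiber η := (hjemb.toHomeomorph.trans (Homeomorph.setCongr hrange)).trans (p.fiberHomeo η).symm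
    rw [IsHomeomorph.topologicalKrullDim_eq _ eC.isHomeomorph]
    exact h.symm
  exact ⟨⟨inferInstance, inferInstance, hCint, hdimC⟩, hH0⟩

end Groth.L05.Models.CurveFacts
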