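import Groth.Agent.L05.Models.SliceAlg
import Groth.Agent.L05.GeomMult.Components
import Groth.Agent.L05.MinModel.Basic
import Groth.Agent.L20.Infinitesimal.Flat
import Groth.Prelude.Def_Models
import Groth.Prelude.Def_W4c5delpairindexchiIndex

/-!
# The index of the generic fibre divides the multiplicities of the closed fibre
-/

set_option autoImplicit false
set_option linter.style.haveILetI false
set_option backward.isDefEq.respectTransparency false
set_option backward.isDefEq.respectTransparency.types false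

universe u

open CategoryTheory CategoryTheory.Limits AlgebraicGeometry TopologicalSpace TensorProduct

noncomputable section

namespace Groth.L05.Models.Index

section Field

variable {K : Type u} [Field K] {X : Scheme.{u}} (f : X ⟶ Spec (CommRingCat.of K)) [LocallyOfFiniteType f]

/-- The degree of a point with values in a finite extension lies in the index subgroup. -/
theorem finrank_mem_indexSubgroup {L : Type u} [Field L] [Algebra K L] [Module.Finite K L]
    (u : Spec (CommRingCat.of L) ⟶ X) (hu : u ≫ f = Spec.map (CommRingCat.ofHom (algebraMap K L))) :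
    (Module.finrank K L : ℤ) ∈ Curv2.indexSubgroup f := by
  let x := u (IsLocalRing.closedPoint L)
  let φ := X.descResidueField (Scheme.stalkClosedPointTo u)
  have hφ : Spec.map φ ≫ X.fromSpecResidueField x = u :=
    Scheme.descResidueField_stalkClosedPointTo_fromSpecResidueField L X u
  let Y := Spec (CommRingCat.of K)
  let χ : CommRingCat.of K ⟶ Y.residueField (f x) := Spec.preimage (Y.fromSpecResidueField (f x))
  have hχ : Function.Bijective χ.hom := by
    haveI : Subsingleton ↥(Spec (CommRingCat.of K)) := inferInstanceAs (Subsingleton (PrimeSpectrum K))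
    obtain ⟨⟨pt, ψ₀⟩, hψ₀⟩ := (Scheme.SpecToEquivOfField K Y).symm.surjective (𝟙 _)
    change Spec.map ψ₀ ≫ Y.fromSpecResidueField pt = 𝟙 _ at hψ₀
    obtain rfl : pt = f x := @Subsingleton.elim _ ‹_› _ _
    have hcomp : χ ≫ ψ₀ = 𝟙 _ := by
      apply Spec.map_injective
      rw [Spec.map_comp, Spec.map_preimage, hψ₀, Spec.map_id]
    exact ⟨RingHom.injective _, fun z => ⟨ψ₀.hom z, ψ₀.hom.injective
      (congrArg (fun g => g.hom (ψ₀.hom z)) hcomp)⟩⟩
  let j : CommRingCat.of K ⟶ X.residueField x := χ ≫ f.residueFieldMap x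
  have hj : Spec.map j = X.fromSpecResidueField x ≫ f := by
    rw [Spec.map_comp, Spec.map_preimage]
    exact Scheme.Hom.SpecMap_residueFieldMap_fromSpecResidueField f x
  have halg : j ≫ φ = CommRingCat.ofHom (algebraMap K L) := by
    apply Spec.map_injective
    rw [Spec.map_comp, hj, ← Category.assoc, hφ, hu]
  letI : Algebra K (X.residueField x) := j.hom.toAlgebra
  letI : Algebra (X.residueField x) L := φ.hom.toAlgebra
  haveI : IsScalarTower K (X.residueField x) L :=
    IsScalarTower.of_algebraMap_eq fun c => (congrArg (fun g => g.hom c) halg).symm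
  haveI : Module.Finite K (X.residueField x) :=
    Module.Finite.of_injective (IsScalarTower.toAlgHom K (X.residueField x) L).toLinearMap φ.hom.injective
  have hx : IsClosed ({x} : Set X) := by
    haveI : JacobsonSpace X := LocallyOfFiniteType.jacobsonSpace f
    rw [isClosed_singleton_iff_locallyOfFiniteType]
    haveI : IsFinite (Spec.map j) := (IsFinite.SpecMap_iff j).2 (RingHom.finite_algebraMap.2 ‹_›)
    haveI : LocallyOfFiniteType (X.fromSpecResidueField x ≫ f) := by rw [← hj]; infer_instance
    exact locallyOfFiniteType_of_comp _ f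
  have hdeg : f.residueDegree x = Module.finrank K (X.residueField x) := by
    letI := (f.residueFieldMap x).hom.toAlgebra
    exact (Algebra.finrank_eq_of_equiv_equiv (RingEquiv.ofBijective _ hχ) (RingEquiv.refl _)
      (RingHom.ext fun c => rfl)).symm
  have hmem : (f.residueDegree x : ℤ) ∈ Curv2.indexSubgroup f :=
    AddSubgroup.subset_closure ⟨x, hx, rfl⟩
  rw [← Module.finrank_mul_finrank K (X.residueField x) L, ← hdeg, Nat.cast_mul, mul_comm, ← smul_eq_mul]
  exact AddSubgroup.zsmul_mem _ hmem _

end Field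

/-- The dimension of a finite algebra is a combination of the degrees of its residue fields. -/
theorem finrank_mem {K : Type u} [Field K] {A : Type u} [CommRing A] [Algebra K A] [Module.Finite K A]
    (H : AddSubgroup ℤ) (h : ∀ P : Ideal A, P.IsMaximal → (Module.finrank K (A ⧸ P) : ℤ) ∈ H) :
    (Module.finrank K A : ℤ) ∈ H := by
  haveI : IsArtinianRing A := IsArtinianRing.of_finite K A
  have key : ∀ (N : Type u) [AddCommGroup N] [Module A N] [Module.Finite A N], ∀ (_ : Module K N)
      (_ : IsScalarTower K A N), (Module.finrank K N : ℤ) ∈ H := by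
    intro N _ _ _
    refine IsNoetherianRing.induction_on_isQuotientEquivQuotientPrime A (M := N) inferInstance
      (motive := fun N _ _ _ => ∀ (_ : Module K N) (_ : IsScalarTower K A N), (Module.finrank K N : ℤ) ∈ H) ?_ ?_ ?_
    · intro N _ _ _ _ _ _
      rw [Module.finrank_zero_of_subsingleton, Nat.cast_zero]
      exact zero_mem _
    · intro N _ _ _ p e _ _
      rw [(e.restrictScalars K).finrank_eq]
      exact h p.1 (IsArtinianRing.isMaximal_of_isPrime p.1)
    · intro N₁ _ _ _ N₂ _ _ _ N₃ _ _ _ g₁ g₂ h₁ h₂ hex ih₁ ih₃ _ _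
      letI : Module K N₁ := Module.compHom N₁ (algebraMap K A)
      letI : Module K N₃ := Module.compHom N₃ (algebraMap K A)
      haveI : IsScalarTower K A N₁ := IsScalarTower.of_algebraMap_smul fun c x => rfl
      haveI : IsScalarTower K A N₃ := IsScalarTower.of_algebraMap_smul fun c x => rfl
      haveI : Module.Finite K N₂ := Module.Finite.trans A N₂
      have hn := LinearMap.finrank_range_add_finrank_ker (g₂.restrictScalars K)
      rw [show LinearMap.range (g₂.restrictScalars K) = ⊤ from LinearMap.range_eq_top.2 h₂, finrank_top,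
        (LinearMap.exact_iff.1 (show Function.Exact (g₁.restrictScalars K) (g₂.restrictScalars K) from hex)),
        LinearMap.finrank_range_of_inj (f := g₁.restrictScalars K) h₁] at hn
      rw [← hn, Nat.cast_add]
      exact add_mem (ih₃ inferInstance inferInstance) (ih₁ inferInstance inferInstance)
  exact key A inferInstance inferInstance

section Model

variable (R : Type u) [CommRing R] [IsDomain R] [IsDiscreteValuationRing R] [HenselianLocalRing R]

open Groth.L05.FibreDecomp (res)

theorem main (hk : IsAlgClosed (IsLocalRing.ResidueField R))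
    (X : Scheme.{u}) (f : X ⟶ Spec (CommRingCat.of (FractionRing R)))
    (𝒳 : Scheme.{u}) (p : 𝒳 ⟶ Spec (CommRingCat.of R)) (h𝒳 : Models.IsModel R 𝒳 p X f)
    (η : ↥(Models.specialFibre R 𝒳 p)) (hη : ∀ y : ↥(Models.specialFibre R 𝒳 p), y ⤳ η → y = η) :
    ∃ ℓ : ℕ, Module.length ((Models.specialFibre R 𝒳 p).presheaf.stalk η) ((Models.specialFibre R 𝒳 p).presheaf.stalk η) = ℓ ∧
      (ℓ : ℤ) ∈ Curv2.indexSubgroup f := by
  obtain ⟨hflat, hlft, hqc, i, hi⟩ := h𝒳
  haveI := hflat; haveI := hlft
  haveI : LocallyOfFiniteType f := MorphismProperty.of_isPullback (P := @LocallyOfFiniteType) hi ‹_›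
  let fst := pullback.fst p (Groth.L05.GeomMult.pt R)
  let ξ : 𝒳 := fst η
  obtain ⟨V, hV, hξV, -⟩ := exists_isAffineOpen_mem_and_subset (U := (⊤ : 𝒳.Opens)) (x := ξ) trivial
  let U : (Over.mk p).left.affineOpens := ⟨V, hV⟩
  letI : Algebra R Γ(𝒳, V) := (res (X := Over.mk p) U).toAlgebra
  have hbij : Function.Bijective (Scheme.ΓSpecIso (CommRingCat.of R)).inv.hom :=
    (Scheme.ΓSpecIso (CommRingCat.of R)).symm.commRingCatIsoToRingEquiv.bijective
  haveI : Algebra.FiniteType R Γ(𝒳, V) := by
    have h := LocallyOfFiniteType.finiteType_appLE p (isAffineOpen_top _) hV (fun _ _ => trivial)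
    have h2 := RingHom.FiniteType.comp h (RingHom.FiniteType.of_surjective _ hbij.2)
    rw [Scheme.Hom.appLE, CommRingCat.hom_comp, RingHom.comp_assoc] at h2
    exact RingHom.finiteType_algebraMap.1 h2
  haveI : Module.Flat R Γ(𝒳, V) := by
    have h := p.flat_appLE (isAffineOpen_top _) hV (fun _ _ => trivial)
    have h2 := RingHom.Flat.comp (RingHom.Flat.of_bijective hbij) h
    rw [Scheme.Hom.appLE, CommRingCat.hom_comp, RingHom.comp_assoc] at h2
    exact RingHom.flat_algebraMap_iff.1 h2
  have hfromSpec : hV.fromSpec ≫ p = Spec.map (CommRingCat.ofHom (algebraMap R Γ(𝒳, V))) := by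
    rw [← IsAffineOpen.SpecMap_appLE_fromSpec p (isAffineOpen_top _) hV (fun _ _ => trivial),
      IsAffineOpen.fromSpec_top, Scheme.isoSpec_Spec_inv, ← Spec.map_comp]
    rfl
  have hpt : ∀ Q : Spec Γ(𝒳, V), p (hV.fromSpec Q) = IsLocalRing.closedPoint R ↔
      (IsLocalRing.maximalIdeal R) ≤ Q.asIdeal.comap (algebraMap R Γ(𝒳, V)) := fun Q => by
    rw [← Scheme.Hom.comp_apply, hfromSpec]
    refine ⟨fun h => (congrArg PrimeSpectrum.asIdeal h).ge, fun h => PrimeSpectrum.ext ?_⟩
    exact ((IsLocalRing.maximalIdeal.isMaximal R).eq_of_le (Ideal.IsPrime.ne_top (Ideal.IsPrime.comap _)) h).symm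
  obtain ⟨ϖ, hϖ⟩ := IsDiscreteValuationRing.exists_irreducible R
  let c : Γ(𝒳, V) := algebraMap R Γ(𝒳, V) ϖ
  have hrange : Set.range fst = p ⁻¹' {IsLocalRing.closedPoint R} :=
    Groth.L05.GeomMult.range_fst_eq (X := Over.mk p)
  have hξs : p ξ = IsLocalRing.closedPoint R := hrange.le ⟨η, rfl⟩
  let qp := hV.primeIdealOf ⟨ξ, hξV⟩
  let q : Ideal Γ(𝒳, V) := qp.asIdeal
  have hqξ : hV.fromSpec qp = ξ := hV.fromSpec_primeIdealOf ⟨ξ, hξV⟩
  have hcq : c ∈ q := by
    have h := (hpt qp).1 (by rw [hqξ]; exact hξs)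
    exact h (hϖ.maximalIdeal_eq ▸ Ideal.mem_span_singleton_self ϖ)
  have hqmin : q ∈ (Ideal.span {c}).minimalPrimes := by
    refine ⟨⟨qp.2, (Ideal.span_singleton_le_iff_mem q).2 hcq⟩, fun P hP hPq => ?_⟩
    haveI := hP.1
    let Q : Spec Γ(𝒳, V) := ⟨P, hP.1⟩
    have hs : Q ⤳ qp := (PrimeSpectrum.le_iff_specializes Q qp).1 hPq
    have hQs : p (hV.fromSpec Q) = IsLocalRing.closedPoint R := (hpt Q).2 fun r hr => by
      rw [hϖ.maximalIdeal_eq, Ideal.mem_span_singleton'] at hr
      obtain ⟨a, rfl⟩ := hr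
      rw [Ideal.mem_comap, map_mul]
      exact Ideal.mul_mem_left _ _ (hP.2 (Ideal.mem_span_singleton_self c))
    obtain ⟨y, hy⟩ : hV.fromSpec Q ∈ Set.range fst := hrange.ge hQs
    have hyη : fst y ⤳ fst η := by
      rw [hy]; exact (hs.map hV.fromSpec.continuous).trans (hqξ.symm ▸ specializes_rfl)
    have hy' := hη y (fst.isEmbedding.isInducing.specializes_iff.1 hyη)
    subst hy'
    have hQq : Q = qp := hV.fromSpec.isOpenEmbedding.injective (hy.symm.trans hqξ.symm)
    exact (congrArg PrimeSpectrum.asIdeal hQq).ge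
  obtain ⟨ℓ, C, _, _, _, _, φ, hrank, hlen⟩ := Slice.exists_finite_slice hk hϖ q hqmin
  refine ⟨ℓ, ?_, ?_⟩
  · -- the local ring of the closed fibre
    letI : Algebra Γ(𝒳, V) (𝒳.presheaf.stalk ξ) := (𝒳.presheaf.germ V ξ hξV).hom.toAlgebra
    haveI : IsLocalization.AtPrime (𝒳.presheaf.stalk ξ) q := hV.isLocalization_stalk ⟨ξ, hξV⟩
    let S := (Models.specialFibre R 𝒳 p).presheaf.stalk η
    let s : 𝒳.presheaf.stalk ξ ⟶ S := fst.stalkMap η
    have hs : Function.Surjective s.hom := fst.stalkMap_surjective η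
    have hker : RingHom.ker s.hom = Ideal.span {algebraMap Γ(𝒳, V) (𝒳.presheaf.stalk ξ) c} := by
      refine (Groth.L20.Infinitesimal.ker_stalkMap fst η).trans ?_
      have hfk : fst.ker = Models.specialFibreIdeal R (Over.mk p) := Groth.L05.GeomMult.ker_fst_eq (X := Over.mk p)
      have hI : fst.ker.ideal ⟨V, hV⟩ = (IsLocalRing.maximalIdeal R).map (algebraMap R Γ(𝒳, V)) :=
        (congrArg (fun J => J.ideal ⟨V, hV⟩) hfk).trans
          (Groth.L05.FibreDecomp.ideal_specialFibreIdeal (X := Over.mk p) U)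
      refine (Groth.L20.SeeNormal.sI_eq fst.ker ⟨V, hV⟩ hξV).trans ?_
      rw [hI, hϖ.maximalIdeal_eq, Ideal.map_span,
        Set.image_singleton, Ideal.map_span, Set.image_singleton]
      rfl
    let e := IsLocalization.algEquiv q.primeCompl (Localization.AtPrime q) (𝒳.presheaf.stalk ξ)
    let sA : Localization.AtPrime q →+* S := s.hom.comp e.toRingEquiv.toRingHom
    have hsA : Function.Surjective sA := hs.comp e.surjective
    letI : Algebra (Localization.AtPrime q) S := sA.toAlgebra
    have hkA : RingHom.ker sA = (Ideal.span {c}).map (algebraMap Γ(𝒳, V) (Localization.AtPrime q)) := by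
      rw [← RingHom.comap_ker, hker, Ideal.map_span, Set.image_singleton]
      ext z
      rw [Ideal.mem_comap, Ideal.mem_span_singleton, Ideal.mem_span_singleton]
      show algebraMap _ (𝒳.presheaf.stalk ξ) c ∣ e z ↔ _
      rw [← e.commutes c, map_dvd_iff]
    rw [← hlen, (Slice.quotLocEquiv (Ideal.span {c}) q).length_eq,
      ← Module.length_eq_of_surjective (S := Localization.AtPrime q) (R := S) (M := S) hsA]
    refine LinearEquiv.length_eq ?_
    exact (Submodule.quotEquivOfEq _ (LinearMap.ker (Algebra.linearMap (Localization.AtPrime q) S)) hkA.symm ≪≫ₗ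
      LinearMap.quotKerEquivOfSurjective (Algebra.linearMap (Localization.AtPrime q) S) hsA).symm
  · rw [← hrank, ← Module.finrank_baseChange (R := FractionRing R) (S := R) (M' := C)]
    refine finrank_mem _ fun P hP => ?_
    haveI := hP
    letI : Field ((FractionRing R ⊗[R] C) ⧸ P) := Ideal.Quotient.field P
    let L := (FractionRing R ⊗[R] C) ⧸ P
    let ψ : Γ(𝒳, V) →ₐ[R] L :=
      ((Ideal.Quotient.mkₐ R P).comp Algebra.TensorProduct.includeRight).comp φ
    let u₀ : Spec (CommRingCat.of L) ⟶ 𝒳 := Spec.map (CommRingCat.ofHom ψ.toRingHom) ≫ hV.fromSpec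
    have hw : u₀ ≫ p = Spec.map (CommRingCat.ofHom (algebraMap (FractionRing R) L)) ≫ Groth.L05.MinModel.gen R := by
      show (_ ≫ hV.fromSpec) ≫ p = _
      rw [Category.assoc, hfromSpec, ← Spec.map_comp, ← Spec.map_comp, ← CommRingCat.ofHom_comp,
        ← CommRingCat.ofHom_comp]
      congr 2
      rw [← IsScalarTower.algebraMap_eq]
      exact ψ.comp_algebraMap
    exact finrank_mem_indexSubgroup f (hi.lift u₀ _ hw) (hi.lift_snd _ _ hw)

end Model

end Groth.L05.Models.Index
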