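import Groth.Agent.L05.FibreDecomp.Main
import Groth.Agent.L05.PtSeq.Invertible
import Groth.Agent.L05.Models.IndexMult
import Groth.Agent.L05.EulerDiv.PowerFibre

/-!
# The special fibre of a regular model as a sum of prime divisors

On a regular flat scheme over a discrete valuation ring, in any dimension, the ideal of the closed fibre is
the product of the ideals of its components to the powers given by the multiplicities.
-/

set_option autoImplicit false
set_option backward.isDefEq.respectTransparency false
set_option linter.style.haveILetI false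
set_option linter.unusedSectionVars false
universe u

open CategoryTheory CategoryTheory.Limits AlgebraicGeometry TopologicalSpace Groth.L22

noncomputable section

namespace Groth.L05.Models.RegFibre

open Groth.L05.FibreDecomp

variable {R : Type u} [CommRing R] [IsDomain R] [IsDiscreteValuationRing R]
  {X : Over (Spec (CommRingCat.of R))}

/-- The multiplicity of the closed fibre at a point. -/
def multAt (R : Type u) [CommRing R] [IsDomain R] [IsDiscreteValuationRing R]
    (X : Over (Spec (CommRingCat.of R))) (ξ : X.left) : ℕ :=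
  (Module.length (X.left.presheaf.stalk ξ)
    (X.left.presheaf.stalk ξ ⧸ (IsLocalRing.maximalIdeal R).map (Models.stalkHom R X ξ))).toNat

variable [IsLocallyNoetherian X.left] [Flat X.hom] (hreg : Models.IsRegularScheme X.left)

include hreg in
theorem dim_maximal {ξ : X.left} (hmem : ξ ∈ Models.specialFibreSet R X)
    (hmax : ∀ y ∈ Models.specialFibreSet R X, y ⤳ ξ → y = ξ) :
    ringKrullDim (X.left.presheaf.stalk ξ) = 1 := by
  obtain ⟨ϖ, hϖ⟩ := IsDiscreteValuationRing.exists_irreducible R
  refine le_antisymm (LocalDim.dim_le_one_of_locPrincipal (D := Models.specialFibreIdeal R X)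
    (fun x _ => ?_) (by rw [support_specialFibreIdeal]; exact hmem) fun y hy hys =>
      hmax y (by rw [← support_specialFibreIdeal]; exact hy) hys) ?_
  · obtain ⟨_, ⟨W, hW, rfl⟩, hxW, -⟩ :=
      X.left.isBasis_affineOpens.exists_subset_of_mem_open (Set.mem_univ x) isOpen_univ
    refine ⟨⟨W, hW⟩, hxW, res ⟨W, hW⟩ ϖ, ?_⟩
    rw [ideal_specialFibreIdeal, hϖ.maximalIdeal_eq, Ideal.map_span, Set.image_singleton]
  · haveI := hreg ξ
    haveI := Groth.L01.isDomain_of_regular (X.left.presheaf.stalk ξ)
    by_contra h
    haveI : Ring.KrullDimLE 0 (X.left.presheaf.stalk ξ) := Ring.krullDimLE_iff.2 (by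
      exact_mod_cast ENat.WithBot.lt_add_one_iff.1 (lt_of_lt_of_le (not_le.1 h) (by simp)))
    have hF : IsField (X.left.presheaf.stalk ξ) := Ring.KrullDimLE.isField_of_isDomain
    letI := hF.toField
    exact (mem_specialFibreSet.1 hmem) ϖ (by rw [hϖ.maximalIdeal_eq]; exact Ideal.mem_span_singleton_self ϖ)
      (isUnit_iff_ne_zero.2 (stalkHom_ne_zero ξ hϖ.ne_zero))

include hreg in
/-- The closed fibre as a sum of prime divisors. -/
theorem specialFibreIdeal_eq_prod_pow {ι : Type*} [Fintype ι] (ξ : ι → X.left)
    (hmem : ∀ i, ξ i ∈ Models.specialFibreSet R X)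
    (hmax : ∀ i, ∀ y ∈ Models.specialFibreSet R X, y ⤳ ξ i → y = ξ i)
    (hinj : Function.Injective ξ)
    (hcover : ∀ x ∈ Models.specialFibreSet R X, ∃ i, ξ i ⤳ x)
    (D : ι → X.left.IdealSheafData) (hD : ∀ i, IsIntegral (D i).subscheme)
    (hgenD : ∀ i, IsGenericPoint (ξ i) ((D i).support : Set X.left)) :
    Models.specialFibreIdeal R X = ∏ i, D i ^ multAt R X (ξ i) := by
  classical
  obtain ⟨ϖ, hϖ⟩ := IsDiscreteValuationRing.exists_irreducible R
  refine ext_of_stalkIdeal _ fun U x hx => ?_
  haveI := hreg x
  haveI := Groth.L01.isDomain_of_regular (X.left.presheaf.stalk x)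
  haveI := Groth.L10.RegUFD.isUFD (X.left.presheaf.stalk x)
  haveI := hD
  let s : Finset ι := Finset.univ.filter fun i => x ∈ ((D i).support : Set X.left)
  have hgen : ∀ i ∈ s, ∃ q, Prime q ∧ Div.stalkIdeal (D i) U x hx = Ideal.span {q} := fun i hi =>
    exists_prime_generator (D i) U x hx (hgenD i) (dim_maximal hreg (hmem i) (hmax i))
      (Finset.mem_filter.1 hi).2
  choose! q hq hqspan using hgen
  have hπ : Div.stalkIdeal (Models.specialFibreIdeal R X) U x hx =
      Ideal.span {Models.stalkHom R X x ϖ} := by
    rw [stalkIdeal_specialFibreIdeal, hϖ.maximalIdeal_eq, Ideal.map_span, Set.image_singleton]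
  have hall : ∀ r, Prime r → r ∣ Models.stalkHom R X x ϖ → ∃ i ∈ s, Associated r (q i) := by
    intro r hr hdvd
    haveI : (Ideal.span {r}).IsPrime := (Ideal.span_singleton_prime hr.ne_zero).2 hr
    obtain ⟨y, hyx, hy⟩ := exists_generization U x hx (Ideal.span {r})
    have hyT : y ∈ Models.specialFibreSet R X := by
      rw [← support_specialFibreIdeal, hy, hπ, Ideal.span_singleton_le_span_singleton]
      exact hdvd
    obtain ⟨i, hi⟩ := hcover y hyT
    have hi : y ∈ ((D i).support : Set X.left) := hi.mem_closed (D i).support.isClosed (hgenD i).mem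
    rw [hy] at hi
    have his : i ∈ s := Finset.mem_filter.2 ⟨Finset.mem_univ i, by
      by_contra hne
      rw [stalkIdeal_eq_top _ U x hx hne, top_le_iff] at hi
      exact (inferInstance : (Ideal.span {r}).IsPrime).ne_top hi⟩
    rw [show Div.stalkIdeal (D i) U x hx = Ideal.span {q i} from hqspan i his,
      Ideal.span_singleton_le_span_singleton] at hi
    exact ⟨i, his, hr.associated_of_dvd (hq i his) hi⟩
  obtain ⟨a, ha⟩ := exists_associated_prod_pow s q (Models.stalkHom R X x ϖ)
    (stalkHom_ne_zero x hϖ.ne_zero) hall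
  have hmult : ∀ i ∈ s, multAt R X (ξ i) = a i := by
    intro i hi
    have hs : ξ i ⤳ x := (hgenD i).specializes (Finset.mem_filter.1 hi).2
    have hξU : ξ i ∈ U.1 := hs.mem_open U.1.2 hx
    haveI := hreg (ξ i)
    haveI := Groth.L01.isDomain_of_regular (X.left.presheaf.stalk (ξ i))
    let φ := (X.left.presheaf.stalkSpecializes hs).hom
    have hφi : IsLocalRing.maximalIdeal (X.left.presheaf.stalk (ξ i)) = Ideal.span {φ (q i)} := by
      rw [← stalkIdeal_generic (D i) U (ξ i) hξU (hgenD i),
        ← map_stalkSpecializes (D i) U x hx hs, hqspan i hi, Ideal.map_span, Set.image_singleton]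
    have hne : φ (q i) ≠ 0 := fun h0 => by
      have hF : IsField (X.left.presheaf.stalk (ξ i)) := by
        rw [IsLocalRing.isField_iff_maximalIdeal_eq, hφi, h0, Ideal.span_singleton_eq_bot]
      have h1 := dim_maximal hreg (hmem i) (hmax i)
      rw [ringKrullDim_eq_zero_of_isField hF] at h1
      exact zero_ne_one h1
    have hother : ∀ j ∈ s, j ≠ i → IsUnit (φ (q j)) := fun j hj hji => by
      rw [← Ideal.span_singleton_eq_top, ← Set.image_singleton (f := φ), ← Ideal.map_span, ← hqspan j hj,
        map_stalkSpecializes (D j) U x hx hs]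
      exact stalkIdeal_eq_top _ U (ξ i) hξU fun h =>
        hji (hinj (hmax i _ (hmem j) ((hgenD j).specializes h)))
    have hspan : (IsLocalRing.maximalIdeal R).map (Models.stalkHom R X (ξ i)) =
        Ideal.span {φ (q i) ^ a i} := by
      rw [← stalkIdeal_specialFibreIdeal U (ξ i) hξU, ← map_stalkSpecializes _ U x hx hs, hπ,
        Ideal.span_singleton_eq_span_singleton.2 ha, Ideal.map_span, Set.image_singleton, map_prod,
        ← Finset.mul_prod_erase s _ hi, map_pow, Ideal.span_singleton_mul_right_unit]
      exact IsUnit.prod_iff.2 fun j hj => by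
        rw [map_pow]
        exact (hother j (Finset.mem_erase.1 hj).2 (Finset.mem_erase.1 hj).1).pow _
    show (Module.length _ (_ ⧸ (IsLocalRing.maximalIdeal R).map (Models.stalkHom R X (ξ i)))).toNat = a i
    rw [hspan, length_quotient_span_pow hφi hne, ENat.toNat_natCast]
  have hprod : Div.stalkIdeal (∏ i, D i ^ multAt R X (ξ i)) U x hx =
      ∏ i, Div.stalkIdeal (D i) U x hx ^ multAt R X (ξ i) := by
    rw [Div.stalkIdeal, ideal_prod]
    refine (map_prod (Ideal.mapHom (X.left.presheaf.germ U.1 x hx).hom) _ _).trans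
      (Finset.prod_congr rfl fun i _ => ?_)
    show Ideal.map _ _ = _
    rw [Scheme.IdealSheafData.ideal_pow, Pi.pow_apply, Ideal.map_pow]
    rfl
  rw [hπ, hprod, ← Finset.prod_subset (Finset.subset_univ s) fun i _ hi => by
      rw [stalkIdeal_eq_top _ U x hx fun h => hi (Finset.mem_filter.2 ⟨Finset.mem_univ i, h⟩),
        ← Ideal.one_eq_top, one_pow],
    Ideal.span_singleton_eq_span_singleton.2 ha, ← Ideal.prod_span_singleton]
  refine Finset.prod_congr rfl fun i hi => ?_
  rw [hqspan i hi, Ideal.span_singleton_pow, hmult i hi]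

omit [IsLocallyNoetherian X.left] [Flat X.hom] in
/-- The local rings of the closed fibre are those of the scheme modulo a uniformizer. -/
theorem length_stalk_specialFibre (η : ↥(Models.specialFibre R X.left X.hom)) :
    Module.length ((Models.specialFibre R X.left X.hom).presheaf.stalk η)
      ((Models.specialFibre R X.left X.hom).presheaf.stalk η) =
    Module.length (X.left.presheaf.stalk ((pullback.fst X.hom (Groth.L05.GeomMult.pt R)) η))
      (X.left.presheaf.stalk ((pullback.fst X.hom (Groth.L05.GeomMult.pt R)) η) ⧸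
        (IsLocalRing.maximalIdeal R).map (Models.stalkHom R X ((pullback.fst X.hom (Groth.L05.GeomMult.pt R)) η))) := by
  let fst := pullback.fst X.hom (Groth.L05.GeomMult.pt R)
  let A := X.left.presheaf.stalk (fst η)
  let S := (Models.specialFibre R X.left X.hom).presheaf.stalk η
  let s : A ⟶ S := fst.stalkMap η
  have hs : Function.Surjective s.hom := fst.stalkMap_surjective η
  obtain ⟨V, hV, hξV, -⟩ := exists_isAffineOpen_mem_and_subset (U := (⊤ : X.left.Opens)) (x := fst η) trivial
  have hker : RingHom.ker s.hom = (IsLocalRing.maximalIdeal R).map (Models.stalkHom R X (fst η)) := by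
    rw [← Groth.L05.FibreDecomp.stalkIdeal_specialFibreIdeal ⟨V, hV⟩ (fst η) hξV,
      ← Groth.L05.GeomMult.ker_fst_eq (X := X)]
    exact (Groth.L20.Infinitesimal.ker_stalkMap fst η).trans (Groth.L20.SeeNormal.sI_eq fst.ker ⟨V, hV⟩ hξV)
  letI : Algebra A S := s.hom.toAlgebra
  rw [← Module.length_eq_of_surjective (S := A) (R := S) (M := S) hs]
  exact ((Submodule.quotEquivOfEq _ (LinearMap.ker (Algebra.linearMap A S)) hker.symm ≪≫ₗ
    LinearMap.quotKerEquivOfSurjective (Algebra.linearMap A S) hs).length_eq).symm

end Groth.L05.Models.RegFibre
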