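import Groth.Agent.L16.Rees.Consequences
import Groth.Agent.L17.QCohExtension
import Groth.Agent.L22.PDual.TwistExt
import Groth.Agent.L14.LocHilb.Lift.Obs.Cls
import Groth.Agent.L19.ConormalAffine
import Groth.Prelude.Def_Canon
import Mathlib.LinearAlgebra.FreeModule.PID

/-!
# The trace of a dualizing pair is injective

If the global functions of `X` are the constants and `H¹(X, O)` is projective, then the trace of a 1-dualizing
pair is injective: a class with trace zero defines an extension of `O` by `ω` to which the trace extends, so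
the extension splits.
-/

set_option autoImplicit false
set_option backward.isDefEq.respectTransparency false
set_option backward.isDefEq.respectTransparency.types false
set_option linter.style.haveILetI false
universe u

open CategoryTheory CategoryTheory.Limits AlgebraicGeometry TopologicalSpace Opposite

noncomputable section

namespace Groth.L05.Models.DualFree

open Groth.L16.CohLinear (hmap hmap_comp hmap_id delta exact_hmap_hmap exact_hmap_delta exact_delta_hmap)
open Groth.L21.RR (e0 e0_hmap oneSec)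

theorem e0_symm_one_smul {X : Scheme.{u}} (a : Coh.Γtop X) :
    a • (e0 (Coh.structureModule X)).symm (oneSec X) =
      (e0 (Coh.structureModule X)).symm (show Γ(Coh.structureModule X, ⊤) from a) := by
  rw [← Groth.L14.LocHilbLift.e0_symm_smul (show Γ(X, ⊤) from a) (oneSec X)]
  congr 1
  exact mul_one (show Γ(X, ⊤) from a)

variable (R : Type u) [CommRing R] [IsDomain R] [IsPrincipalIdealRing R] {X : Scheme.{u}} [X.Over (Spec (CommRingCat.of R))]

theorem injective_tr (hconst : Function.Surjective (Coh.toGlobal (X ↘ Spec (CommRingCat.of R))))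
    [Module.Free R (Coh.HH X (Coh.structureModule X) 1)] [Module.Finite R (Coh.HH X (Coh.structureModule X) 1)]
    (ω : X.Modules) (tr : Coh.HH X ω 1 →ₗ[R] R) (hω : Canon.IsRDualOver R X 1 ω tr) :
    Function.Injective tr := by
  refine (injective_iff_map_eq_zero tr).2 fun e he => ?_
  obtain ⟨hqc, hbij⟩ := hω
  let S : ShortComplex X.Modules :=
    ShortComplex.mk (Injective.ι ω) (cokernel.π (Injective.ι ω)) (cokernel.condition _)
  have hS : S.ShortExact :=
    { exact := S.exact_of_g_is_cokernel (cokernelIsCokernel _)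
      mono_f := inferInstanceAs (Mono (Injective.ι ω))
      epi_g := inferInstanceAs (Epi (cokernel.π (Injective.ι ω))) }
  haveI : Subsingleton (Coh.HH X S.X₂ 1) := Groth.L22.PDual.subsingleton_HH_injective (Injective.under ω) 0
  obtain ⟨q, rfl⟩ := (exact_delta_hmap hS 0 e).1 (Subsingleton.elim _ _)
  obtain ⟨s, hs⟩ := Groth.L21.RR.exists_hom_of_hh0 q
  haveI : Epi (cokernel.π (Injective.ι ω)) := inferInstance
  let i : ω ⟶ pullback S.g s := pullback.lift S.f 0 (by rw [S.zero, zero_comp])
  let T : ShortComplex X.Modules := ShortComplex.mk i (pullback.snd S.g s) (pullback.lift_snd _ _ _)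
  haveI : Mono i := by
    haveI : Mono (i ≫ pullback.fst S.g s) := by
      rw [pullback.lift_fst]
      exact hS.mono_f
    exact mono_of_mono i (pullback.fst S.g s)
  haveI : Epi S.g := hS.epi_g
  have hT : T.ShortExact :=
    { exact := T.exact_of_f_is_kernel (KernelFork.IsLimit.ofι' _ _ fun {A} h hh => by
        have h1 : (h ≫ pullback.fst S.g s) ≫ S.g = 0 := by
          rw [Category.assoc, pullback.condition, ← Category.assoc, hh, zero_comp]
        haveI := hS.mono_f
        refine ⟨hS.exact.lift _ h1, pullback.hom_ext ?_ ?_⟩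
        · show (hS.exact.lift _ h1 ≫ i) ≫ pullback.fst S.g s = h ≫ pullback.fst S.g s
          rw [Category.assoc, pullback.lift_fst]
          exact hS.exact.lift_f _ h1
        · show (hS.exact.lift _ h1 ≫ i) ≫ pullback.snd S.g s = h ≫ pullback.snd S.g s
          rw [Category.assoc, pullback.lift_snd, comp_zero]
          exact hh.symm)
      mono_f := inferInstanceAs (Mono i)
      epi_g := inferInstanceAs (Epi (pullback.snd S.g s)) }
  let τ : T ⟶ S :=
    { τ₁ := 𝟙 _
      τ₂ := pullback.fst S.g s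
      τ₃ := s
      comm₁₂ := by
        show 𝟙 ω ≫ S.f = i ≫ pullback.fst S.g s
        rw [pullback.lift_fst, Category.id_comp]
      comm₂₃ := pullback.condition }
  have hδ : delta hT 0 ((e0 (Coh.structureModule X)).symm (oneSec X)) = delta hS 0 q := by
    have h := Groth.L16.Rees.delta_naturality hT hS τ ((e0 (Coh.structureModule X)).symm (oneSec X))
    rw [hmap_id] at h
    refine h.symm.trans (congrArg (delta hS 0) ((e0 _).injective ?_))
    rw [e0_hmap, AddEquiv.apply_symm_apply]
    exact hs
  have hker : ∀ x : Coh.HH X ω 1, Canon.HHlin R i 1 x = 0 → tr x = 0 := fun x hx => by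
    obtain ⟨y, rfl⟩ := (exact_delta_hmap hT 0 x).1 hx
    obtain ⟨a, ha⟩ := hconst (show Coh.Γtop X from e0 (Coh.structureModule X) y)
    have hy : y = Coh.toGlobal (X ↘ Spec (CommRingCat.of R)) a • (e0 (Coh.structureModule X)).symm (oneSec X) := by
      rw [ha, e0_symm_one_smul]
      exact ((e0 (Coh.structureModule X)).symm_apply_apply y).symm
    rw [hy, map_smul, hδ]
    show tr (a • (show Coh.HH X ω 1 from delta hS 0 q)) = 0
    rw [map_smul]
    exact (congrArg (a • ·) he).trans (smul_zero a)
  have hqT : Coh.IsQCoh T.X₂ :=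
    Groth.L17.QCohExtension.isQCoh_extension T hT hqc (Groth.L19.Conormal.isQCoh_structureModule X)
  -- the image of `H¹ ω` is a direct summand
  let f₁ : Coh.HH X ω 1 →ₗ[R] Coh.HH X T.X₂ 1 := Canon.HHlin R i 1
  let g₁ : Coh.HH X T.X₂ 1 →ₗ[R] Coh.HH X (Coh.structureModule X) 1 := Canon.HHlin R T.g 1
  have hex : Function.Exact f₁ g₁ := exact_hmap_hmap hT 1
  haveI : Module.Free R (LinearMap.range g₁) := Module.Free.of_basis
    (Submodule.basisOfPid (Module.Free.chooseBasis R _) (LinearMap.range g₁)).2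
  obtain ⟨l, hl⟩ := Module.projective_lifting_property g₁.rangeRestrict
    (LinearMap.id : LinearMap.range g₁ →ₗ[R] LinearMap.range g₁)
    g₁.surjective_rangeRestrict
  let P : Coh.HH X T.X₂ 1 →ₗ[R] Coh.HH X T.X₂ 1 := LinearMap.id - l ∘ₗ g₁.rangeRestrict
  have hP : ∀ m : Coh.HH X T.X₂ 1, P m ∈ LinearMap.range f₁ := fun m => by
    refine (hex _).1 ?_
    have h := congrArg Subtype.val (LinearMap.congr_fun hl (g₁.rangeRestrict m))
    simp only [P, LinearMap.sub_apply, LinearMap.id_apply, LinearMap.comp_apply, map_sub] at h ⊢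
    exact sub_eq_zero.2 h.symm
  let t₁ : LinearMap.range f₁ →ₗ[R] R :=
    (LinearMap.ker f₁).liftQ tr hker ∘ₗ f₁.quotKerEquivRange.symm.toLinearMap
  have ht₁ : ∀ x, t₁ ⟨f₁ x, x, rfl⟩ = tr x := fun x => by
    show (LinearMap.ker f₁).liftQ tr hker (f₁.quotKerEquivRange.symm ⟨f₁ x, x, rfl⟩) = tr x
    rw [LinearMap.quotKerEquivRange_symm_apply_image f₁ x]
    rfl
  obtain ⟨r, hr⟩ := (hbij T.X₂ hqT).2
    (t₁ ∘ₗ LinearMap.codRestrict (LinearMap.range f₁) P hP)
  have hir : i ≫ r = 𝟙 ω := (hbij ω hqc).1 (LinearMap.ext fun x => by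
    have h1 : Canon.HHlin R (i ≫ r) 1 x = Canon.HHlin R r 1 (f₁ x) := hmap_comp i r 1 x
    have h2 : Canon.HHlin R (𝟙 ω) 1 x = x := hmap_id 1 x
    show tr (Canon.HHlin R (i ≫ r) 1 x) = tr (Canon.HHlin R (𝟙 ω) 1 x)
    rw [h1, h2]
    refine (LinearMap.congr_fun hr (f₁ x)).trans ?_
    have h0 : g₁.rangeRestrict (f₁ x) = 0 := Subtype.ext ((hex _).2 ⟨x, rfl⟩)
    refine (congrArg t₁ (Subtype.ext ?_)).trans (ht₁ x)
    show P (f₁ x) = f₁ x
    simp only [P]
    rw [LinearMap.sub_apply, LinearMap.comp_apply, h0, map_zero, sub_zero, LinearMap.id_apply])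
  have h0 : hmap T.f 1 (delta hT 0 ((e0 (Coh.structureModule X)).symm (oneSec X))) = 0 :=
    (exact_delta_hmap hT 0 _).2 ⟨_, rfl⟩
  rw [hδ] at h0
  have h1 := congrArg (hmap r 1) h0
  rw [map_zero, ← hmap_comp] at h1
  rw [show T.f ≫ r = 𝟙 ω from hir, hmap_id] at h1
  exact h1

end Groth.L05.Models.DualFree
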