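import Groth.Agent.L05.Models.DualFree
import Groth.Agent.L05.InterPair.Vertical
import Groth.Agent.L08.Cube.FibreFun
import Groth.Agent.L08.Cube.SmoothStalk
import Groth.Agent.L21.Curve.NormalConnected
import Groth.Agent.L21.GenusOne.Field
import Groth.Agent.L12.VBLift.Small
import Groth.Agent.L16.ProperFinite
import Groth.Agent.L16.CohClosedPush
import Groth.Agent.L29.DCoh.QCohOps
import Groth.Prelude.Def_Models
import Mathlib.AlgebraicGeometry.Morphisms.Proper
import Mathlib.AlgebraicGeometry.Morphisms.QuasiSeparated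

/-!
# A coherent sheaf on a relative curve whose `H¹` has a nonzero linear form
-/

set_option autoImplicit false
set_option backward.isDefEq.respectTransparency false
set_option backward.isDefEq.respectTransparency.types false
set_option linter.style.haveILetI false
universe u

open CategoryTheory CategoryTheory.Limits AlgebraicGeometry TopologicalSpace Opposite

noncomputable section

namespace Groth.L05.Models.DualFree

open Groth.L16.CohLinear (hmap hmap_comp hmap_id delta exact_hmap_hmap exact_hmap_delta exact_delta_hmap)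
open Groth.L21.RR (e0 e0_hmap oneSec)

theorem exists_two_closedPoints {C : Scheme.{u}} [JacobsonSpace C] [Nontrivial C] :
    ∃ x y : C, x ≠ y ∧ IsClosed ({x} : Set C) ∧ IsClosed ({y} : Set C) := by
  have hd := JacobsonSpace.closure_inter_closedPoints (X := C) isClosed_univ
  rw [Set.univ_inter] at hd
  have hne : (closedPoints C).Nonempty := by
    rw [← closure_nonempty_iff, hd]
    exact Set.univ_nonempty
  obtain ⟨x, hx⟩ := hne
  by_cases h : closedPoints C ⊆ {x}
  · exfalso
    have : (Set.univ : Set C) ⊆ {x} := by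
      rw [← hd]
      exact closure_minimal h hx
    obtain ⟨a, b, hab⟩ := exists_pair_ne C
    exact hab ((this (Set.mem_univ a)).trans (this (Set.mem_univ b)).symm)
  · obtain ⟨y, hy, hyx⟩ := Set.not_subset.1 h
    exact ⟨x, y, fun e => hyx e.symm, hx, hy⟩

/-- A linear form killing `one` and not the whole module. -/
theorem exists_form {R : Type u} [CommRing R] [IsDomain R] [IsPrincipalIdealRing R] {M : Type u} [AddCommGroup M]
    [Module R M] [Module.Finite R M] (one s : M) (h : ∀ a b : R, a • s = b • one → a = 0) :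
    ∃ φ : M →ₗ[R] R, φ one = 0 ∧ φ ≠ 0 := by
  let T := M ⧸ (R ∙ one)
  let T' := T ⧸ Submodule.torsion R T
  haveI : Module.IsTorsionFree R T' := inferInstance
  haveI : Module.Free R T' := Module.free_of_finite_type_torsion_free'
  let π : M →ₗ[R] T' := (Submodule.torsion R T).mkQ ∘ₗ (R ∙ one).mkQ
  have hs : π s ≠ 0 := fun h0 => by
    obtain ⟨⟨a, ha⟩, hat⟩ := (Submodule.Quotient.mk_eq_zero _).1 h0
    obtain ⟨b, hb⟩ := Submodule.mem_span_singleton.1 ((Submodule.Quotient.mk_eq_zero (R ∙ one)).1
      (show (R ∙ one).mkQ (a • s) = 0 from ((R ∙ one).mkQ.map_smul a s).trans hat))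
    exact nonZeroDivisors.ne_zero ha (h a b hb.symm)
  let B := Module.Free.chooseBasis R T'
  obtain ⟨i, hi⟩ : ∃ i, B.repr (π s) i ≠ 0 := by
    by_contra! hh
    exact hs (B.repr.injective (Finsupp.ext fun i => by rw [hh i, map_zero]; rfl))
  refine ⟨B.coord i ∘ₗ π, ?_, fun h0 => hi (LinearMap.congr_fun h0 s)⟩
  show B.coord i ((Submodule.torsion R T).mkQ ((R ∙ one).mkQ one)) = 0
  rw [show (R ∙ one).mkQ one = 0 from (Submodule.Quotient.mk_eq_zero _).2 (Submodule.mem_span_singleton_self one),
    map_zero, map_zero]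

variable (R : Type u) [CommRing R] [IsDomain R] [IsDiscreteValuationRing R] {X : Scheme.{u}}
  [X.Over (Spec (CommRingCat.of R))]

local notation "p" => X ↘ Spec (CommRingCat.of R)

/-- Functions on the model: integral closure. -/
theorem surjective_toGlobal [IsReduced X] [Flat p] [IsProper p] {C : Scheme.{u}}
    (f : C ⟶ Spec (CommRingCat.of (FractionRing R))) (g : C ⟶ X)
    (hg : IsPullback g f p (Spec.map (CommRingCat.ofHom (algebraMap R (FractionRing R)))))
    (hC : Function.Bijective (Coh.toGlobal f)) : Function.Surjective (Coh.toGlobal p) := fun x => by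
  let gT : Γ(X, ⊤) →+* Γ(C, ⊤) := g.appTop.hom
  let e := RingEquiv.ofBijective _ hC
  let θ : Γ(X, ⊤) →+* FractionRing R := e.symm.toRingHom.comp gT
  have hθ : ∀ a : R, θ (Coh.toGlobal p a) = algebraMap R (FractionRing R) a := fun a => by
    refine e.injective ?_
    show e (e.symm (gT (Coh.toGlobal p a))) = _
    rw [RingEquiv.apply_symm_apply]
    show g.appTop ((p).appTop ((Scheme.ΓSpecIso (CommRingCat.of R)).inv a)) =
      f.appTop ((Scheme.ΓSpecIso _).inv (algebraMap R (FractionRing R) a))
    rw [← CommRingCat.comp_apply, ← Scheme.Hom.comp_appTop, hg.w, Scheme.Hom.comp_appTop, CommRingCat.comp_apply]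
    congr 1
    exact ConcreteCategory.congr_hom (Scheme.ΓSpecIso_inv_naturality
      (CommRingCat.ofHom (algebraMap R (FractionRing R)))).symm a
  have hinj : ∀ z : Γ(X, ⊤), θ z = 0 → z = 0 := fun z hz => by
    refine eq_zero_of_basicOpen_eq_bot z ?_
    have hgz : g.appTop z = 0 := e.symm.injective (hz.trans (map_zero e.symm).symm)
    ext w
    refine ⟨fun hw => ?_, fun hw => hw.elim⟩
    haveI : IsDomain (CommRingCat.of R) := inferInstanceAs (IsDomain R)
    let η : Spec (CommRingCat.of R) := genericPoint (Spec (CommRingCat.of R))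
    have hsp : η ⤳ (p) w := (genericPoint_spec _).specializes trivial
    obtain ⟨w', hw', hw'η⟩ := Flat.generalizingMap (p) hsp
    have hpt : ∀ t : Spec (CommRingCat.of (FractionRing R)),
        Spec.map (CommRingCat.ofHom (algebraMap R (FractionRing R))) t = η := fun t => by
      show _ = genericPoint (Spec (CommRingCat.of R))
      rw [genericPoint_eq_bot_of_affine]
      refine PrimeSpectrum.ext ?_
      show Ideal.comap (algebraMap R (FractionRing R)) t.asIdeal = ⊥
      rw [(Ideal.eq_bot_or_top t.asIdeal).resolve_right t.2.ne_top, Ideal.comap_bot_of_injective]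
      exact IsFractionRing.injective R (FractionRing R)
    haveI : Nonempty ↥(Spec (CommRingCat.of (FractionRing R))) :=
      inferInstanceAs (Nonempty (PrimeSpectrum (FractionRing R)))
    obtain ⟨c, hc⟩ : w' ∈ Set.range g := by
      rw [← hg.isoPullback_hom_fst, Scheme.Hom.comp_base, TopCat.coe_comp, Set.range_comp,
        Set.range_eq_univ.2 hg.isoPullback.hom.surjective, Set.image_univ, Scheme.Pullback.range_fst]
      exact ⟨Classical.arbitrary _, (hpt _).trans hw'η.symm⟩
    have h1 : c ∈ g ⁻¹ᵁ X.basicOpen z := by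
      show g c ∈ X.basicOpen z
      rw [hc]
      exact hw'.mem_open (X.basicOpen z).2 hw
    rw [Scheme.preimage_basicOpen_top g z, hgz, Scheme.basicOpen_zero] at h1
    exact h1.elim
  have hint : (p).appTop.hom.IsIntegral := isIntegral_appTop_of_universallyClosed p
  obtain ⟨P, hP, hP0⟩ := hint x
  have hi : _root_.IsIntegral R (θ x) := by
    refine ⟨P.map (Scheme.ΓSpecIso (CommRingCat.of R)).hom.hom, hP.map _, ?_⟩
    rw [Polynomial.eval₂_map]
    have h2 := congrArg θ hP0
    rw [map_zero, Polynomial.hom_eval₂] at h2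
    refine Eq.trans ?_ h2
    congr 1
    ext a
    show algebraMap R (FractionRing R) ((Scheme.ΓSpecIso (CommRingCat.of R)).hom a) = θ ((p).appTop a)
    rw [← hθ]
    show θ ((p).appTop ((Scheme.ΓSpecIso _).inv ((Scheme.ΓSpecIso (CommRingCat.of R)).hom a))) = _
    rw [Iso.hom_inv_id_apply]
  obtain ⟨r, hr⟩ := IsIntegrallyClosed.isIntegral_iff.1 hi
  refine ⟨r, sub_eq_zero.1 (hinj _ ?_)⟩
  rw [map_sub, sub_eq_zero]
  exact (hθ r).trans hr

/-- An ideal sheaf of two horizontal points has a linear form on its first cohomology. -/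
theorem exists_sheaf_with_form [IsProper p] [IsLocallyNoetherian X] {C : Scheme.{u}}
    (f : C ⟶ Spec (CommRingCat.of (FractionRing R))) (g : C ⟶ X)
    (hg : IsPullback g f p (Spec.map (CommRingCat.ofHom (algebraMap R (FractionRing R)))))
    (x y : C) (hxy : x ≠ y) (hx : IsClosed ({x} : Set C)) (hy : IsClosed ({y} : Set C))
    (hconst : Function.Surjective (Coh.toGlobal p))
    [Subsingleton (Coh.HH X (Coh.structureModule X) 1)] :
    ∃ F : X.Modules, Coh.IsQCoh F ∧ ∃ φ : Coh.HH X F 1 →ₗ[R] R, φ ≠ 0 := by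
  classical
  obtain ⟨ϖ, hϖ⟩ := IsDiscreteValuationRing.exists_irreducible R
  obtain ⟨hopen, hrange⟩ := Groth.L05.InterPair.isOpenImmersion_generic R hϖ
  haveI := hopen
  haveI : IsOpenImmersion g := MorphismProperty.of_isPullback hg.flip hopen
  let J : X.IdealSheafData := Scheme.IdealSheafData.vanishingIdeal ⟨closure {g x, g y}, isClosed_closure⟩
  let Z : Scheme.{u} := J.subscheme
  let j : Z ⟶ X := J.subschemeι
  have hj : Set.range j = closure {g x, g y} := by
    rw [Scheme.IdealSheafData.range_subschemeι, Scheme.IdealSheafData.coe_support_vanishingIdeal]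
    rfl
  obtain ⟨zx, hzx⟩ : g x ∈ Set.range j := hj ▸ subset_closure (Set.mem_insert _ _)
  obtain ⟨zy, hzy⟩ : g y ∈ Set.range j := hj ▸ subset_closure (Set.mem_insert_of_mem _ rfl)
  have hne : zx ≠ zy := fun h => hxy (g.isOpenEmbedding.injective (hzx.symm.trans ((congrArg j h).trans hzy)))
  letI : Z.Over (Spec (CommRingCat.of R)) := ⟨j ≫ p⟩
  let a : Γ(X, ⊤) := Coh.toGlobal p ϖ
  let b : Γ(Z, ⊤) := j.appTop a
  have ha : (X.basicOpen a : Set X) = Set.range g := by
    rw [← hg.isoPullback_hom_fst, Scheme.Hom.comp_base, TopCat.coe_comp, Set.range_comp,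
      Set.range_eq_univ.2 hg.isoPullback.hom.surjective, Set.image_univ, Scheme.Pullback.range_fst, hrange]
    show ((X.basicOpen ((p).appTop ((Scheme.ΓSpecIso (CommRingCat.of R)).inv ϖ))) : Set X) = _
    rw [← Scheme.preimage_basicOpen_top (p), basicOpen_eq_of_affine]
    rfl
  have hpts : ∀ z ∈ Z.basicOpen b, z = zx ∨ z = zy := fun z hz => by
    have h1 : j z ∈ X.basicOpen a := by
      rw [← Scheme.preimage_basicOpen_top] at hz
      exact hz
    have h2 : j z ∈ Set.range g := ha ▸ h1
    obtain ⟨c, hc⟩ := h2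
    have h3 : g c ∈ closure {g x, g y} := hc ▸ hj ▸ Set.mem_range_self z
    have h4 : c ∈ closure ({x, y} : Set C) := by
      rw [show ({x, y} : Set C) = g ⁻¹' {g x, g y} by
        rw [← Set.image_pair, g.isOpenEmbedding.injective.preimage_image]]
      rw [← g.isOpenEmbedding.isOpenMap.preimage_closure_eq_closure_preimage g.continuous]
      exact h3
    rw [(show IsClosed ({x, y} : Set C) from hx.union hy).closure_eq] at h4
    rcases h4 with h4 | h4
    · exact Or.inl (j.isEmbedding.injective (hc.symm.trans ((congrArg g h4).trans hzx.symm)))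
    · exact Or.inr (j.isEmbedding.injective (hc.symm.trans ((congrArg g h4).trans hzy.symm)))
  have hmem : ∀ z : Z, j z ∈ Set.range g → z ∈ Z.basicOpen b := fun z hz => by
    rw [← Scheme.preimage_basicOpen_top]
    show j z ∈ (X.basicOpen a : Set X)
    rw [ha]
    exact hz
  have hclg : ∀ c : C, IsClosed ({c} : Set C) →
      IsClosed ((Subtype.val : Z.basicOpen b → Z) ⁻¹' (j ⁻¹' {g c})) := fun c hc => by
    have h1 : IsClosed (closure ({g c} : Set X)) := isClosed_closure
    have h2 := h1.preimage (j.continuous.comp (continuous_subtype_val : Continuous (Subtype.val : Z.basicOpen b → Z)))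
    convert h2 using 1
    ext z
    refine ⟨fun h => subset_closure h, fun h => ?_⟩
    obtain ⟨d, hd⟩ : j z.1 ∈ Set.range g := by
      rw [← ha]
      exact (Scheme.preimage_basicOpen_top j a).ge z.2
    have h3 : d ∈ g ⁻¹' closure {g c} := show g d ∈ closure {g c} from hd ▸ h
    rw [g.isOpenEmbedding.isOpenMap.preimage_closure_eq_closure_preimage g.continuous,
      ← Set.image_singleton, g.isOpenEmbedding.injective.preimage_image, hc.closure_eq] at h3
    show j z.1 = g c
    rw [← hd, Set.mem_singleton_iff.1 h3]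
  -- the two points are open in the generic fibre of `Z`
  have hopen : ∀ z z' : Z, (∀ w ∈ Z.basicOpen b, w = z ∨ w = z') → z ≠ z' → ∀ c : C, IsClosed ({c} : Set C) →
      j z' = g c → IsOpen ((Z.basicOpen b : Set Z) \ {z'}) := fun z z' _ _ c hc hz' => by
    have h := (hclg c hc).isOpen_compl
    have h2 := (Z.basicOpen b).2.isOpenMap_subtype_val _ h
    convert h2 using 1
    ext w
    refine ⟨fun hw => ⟨⟨w, hw.1⟩, fun h => hw.2 (j.isEmbedding.injective (h.trans hz'.symm)), rfl⟩, ?_⟩
    rintro ⟨⟨w, hw⟩, hwc, rfl⟩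
    exact ⟨hw, fun e => hwc (show j w = g c from (congrArg j e).trans hz')⟩
  let Ux : Z.Opens := ⟨_, hopen zx zy hpts hne y hy hzy⟩
  let Uy : Z.Opens := ⟨_, hopen zy zx (fun w hw => (hpts w hw).symm) hne.symm x hx hzx⟩
  have hdisj : Ux ⊓ Uy = ⊥ := by
    ext w
    refine ⟨fun hw => ?_, fun hw => hw.elim⟩
    rcases hpts w hw.1.1 with h | h
    · exact absurd h hw.2.2
    · exact absurd h hw.1.2
  have hzxU : zx ∈ Ux := ⟨hmem zx (hzx ▸ Set.mem_range_self x), hne⟩
  have hzyU : zy ∈ Uy := ⟨hmem zy (hzy ▸ Set.mem_range_self y), hne.symm⟩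
  have hcov : Z.basicOpen b ≤ ⨆ i : Bool, cond i Ux Uy := fun w hw => by
    rcases hpts w hw with h | h
    · exact Opens.mem_iSup.2 ⟨true, h ▸ hzxU⟩
    · exact Opens.mem_iSup.2 ⟨false, h ▸ hzyU⟩
  obtain ⟨e, he, -⟩ := Z.sheaf.existsUnique_gluing' (fun i : Bool => cond i Ux Uy) (Z.basicOpen b)
    (fun i => homOfLE (by cases i <;> exact fun w hw => hw.1)) hcov
    (fun i => match i with | true => (1 : Γ(Z, Ux)) | false => (0 : Γ(Z, Uy)))
    (fun i i' => by
      have hsub : ∀ V : Z.Opens, V = ⊥ → Subsingleton Γ(Z, V) := fun V hV => hV ▸ inferInstance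
      cases i <;> cases i'
      · rfl
      · exact @Subsingleton.elim _ (hsub _ (inf_comm Uy Ux ▸ hdisj)) _ _
      · exact @Subsingleton.elim _ (hsub _ hdisj) _ _
      · rfl)
  haveI : CompactSpace X := QuasiCompact.compactSpace_of_compactSpace p
  haveI : CompactSpace Z := QuasiCompact.compactSpace_of_compactSpace (j ≫ p)
  haveI : QuasiSeparatedSpace Z := quasiSeparatedSpace_of_quasiSeparated (j ≫ p)
  haveI := isLocalization_basicOpen_of_qcqs (X := Z) (U := ⊤) isCompact_univ isQuasiSeparated_univ b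
  obtain ⟨N, s, hs⟩ := IsLocalization.Away.surj (S := Γ(Z, Z.basicOpen b)) b e
  let evx : Γ(Z, ⊤) →+* Z.residueField zx := (Z.evaluation ⊤ zx trivial).hom
  let evy : Γ(Z, ⊤) →+* Z.residueField zy := (Z.evaluation ⊤ zy trivial).hom
  have hev : ∀ (z : Z) (hz : z ∈ Z.basicOpen b) (r : Γ(Z, ⊤)),
      (Z.evaluation (Z.basicOpen b) z hz).hom (algebraMap Γ(Z, ⊤) Γ(Z, Z.basicOpen b) r) =
        (Z.evaluation ⊤ z trivial).hom r := fun z hz r => by
    show Z.residue z (Z.presheaf.germ _ z hz (Z.presheaf.map (homOfLE _).op r)) = _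
    rw [TopCat.Presheaf.germ_res_apply]
    rfl
  have hevU : ∀ (z : Z) (hz : z ∈ Z.basicOpen b) (V : Z.Opens) (hV : z ∈ V) (hle : V ≤ Z.basicOpen b),
      (Z.evaluation (Z.basicOpen b) z hz).hom e = (Z.evaluation V z hV).hom (Z.presheaf.map (homOfLE hle).op e) :=
    fun z hz V hV hle => by
    show Z.residue z (Z.presheaf.germ _ z hz e) = Z.residue z (Z.presheaf.germ _ z hV (Z.presheaf.map _ e))
    rw [TopCat.Presheaf.germ_res_apply]
  have hsx : evx s = evx b ^ N := by
    have h := congrArg (Z.evaluation (Z.basicOpen b) zx hzxU.1).hom hs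
    rw [map_mul, ← map_pow (algebraMap Γ(Z, ⊤) Γ(Z, Z.basicOpen b)), hev, hev, map_pow,
      hevU zx _ Ux hzxU (fun w hw => hw.1)] at h
    rw [show Z.presheaf.map (homOfLE (fun w hw => hw.1 : Ux ≤ Z.basicOpen b)).op e = 1 from he true, map_one,
      one_mul] at h
    exact h.symm
  have hsy : evy s = 0 := by
    have h := congrArg (Z.evaluation (Z.basicOpen b) zy hzyU.1).hom hs
    rw [map_mul, ← map_pow (algebraMap Γ(Z, ⊤) Γ(Z, Z.basicOpen b)), hev, hev,
      hevU zy _ Uy hzyU (fun w hw => hw.1)] at h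
    rw [show Z.presheaf.map (homOfLE (fun w hw => hw.1 : Uy ≤ Z.basicOpen b)).op e = 0 from he false, map_zero,
      zero_mul] at h
    exact h.symm
  let κ : R →+* Γ(Z, ⊤) := j.appTop.hom.comp (Coh.toGlobal p)
  have hκ : ∀ (c : C) (z : Z), j z = g c → Function.Injective ((Z.evaluation ⊤ z trivial).hom.comp κ) := fun c z hz => by
    refine (injective_iff_map_eq_zero _).2 fun r hr => ?_
    by_contra hr0
    have hu : IsUnit (Coh.toGlobal f (algebraMap R (FractionRing R) r)) := (isUnit_iff_ne_zero.2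
      fun h => hr0 (IsFractionRing.injective R (FractionRing R) (h.trans (map_zero _).symm))).map _
    have h1 : c ∈ g ⁻¹ᵁ X.basicOpen (show Γ(X, ⊤) from Coh.toGlobal p r) := by
      rw [Scheme.preimage_basicOpen_top]
      have heq : g.appTop (show Γ(X, ⊤) from Coh.toGlobal p r) = Coh.toGlobal f (algebraMap R (FractionRing R) r) := by
        show g.appTop ((p).appTop ((Scheme.ΓSpecIso (CommRingCat.of R)).inv r)) =
          f.appTop ((Scheme.ΓSpecIso _).inv (algebraMap R (FractionRing R) r))
        rw [← CommRingCat.comp_apply, ← Scheme.Hom.comp_appTop, hg.w, Scheme.Hom.comp_appTop, CommRingCat.comp_apply]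
        congr 1
        exact ConcreteCategory.congr_hom (Scheme.ΓSpecIso_inv_naturality
          (CommRingCat.ofHom (algebraMap R (FractionRing R)))).symm r
      rw [heq, Scheme.basicOpen_of_isUnit _ hu]
      exact trivial
    have h2 : z ∈ Z.basicOpen (κ r) := by
      show z ∈ Z.basicOpen (j.appTop (show Γ(X, ⊤) from Coh.toGlobal p r))
      rw [← Scheme.preimage_basicOpen_top]
      show j z ∈ X.basicOpen (show Γ(X, ⊤) from Coh.toGlobal p r)
      rw [hz]
      exact h1
    exact (Scheme.evaluation_ne_zero_iff_mem_basicOpen (X := Z) (U := ⊤) z trivial (κ r)).2 h2 hr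
  -- transfer
  let P : X.Modules := (Scheme.Modules.pushforward j).obj (Coh.structureModule Z)
  haveI := Groth.L12.VBLift.epi_unitToPush j
  let S : ShortComplex X.Modules :=
    ShortComplex.mk (kernel.ι (ClSub.unitToPush j)) (ClSub.unitToPush j) (kernel.condition _)
  have hS : S.ShortExact :=
    { exact := S.exact_of_f_is_kernel (kernelIsKernel _)
      mono_f := inferInstanceAs (Mono (kernel.ι _))
      epi_g := Groth.L12.VBLift.epi_unitToPush j }
  have hO := Groth.L16.CohClosedPush.isCoh_structure (X := X)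
  haveI : IsLocallyNoetherian Z := LocallyOfFiniteType.isLocallyNoetherian j
  have hP : Coh.IsCoh P :=
    Groth.L16.CohClosedPush.isCoh_push j (Groth.L16.CohClosedPush.isCoh_structure (X := Z))
  haveI : Module.Finite R (Coh.HH X P 0) := Groth.L16.ProperFinite.finite_HH R hP 0
  let σ : Γ(Z, ⊤) → Coh.HH X P 0 := fun v => (e0 P).symm v
  have hσ : ∀ (r : R) (v : Γ(Z, ⊤)), r • σ v = σ (κ r * v) := fun r v => by
    show Coh.toGlobal p r • (e0 P).symm v = (e0 P).symm _
    rw [← Groth.L14.LocHilbLift.e0_symm_smul (show Γ(X, ⊤) from Coh.toGlobal p r)]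
    rfl
  obtain ⟨φ, hφ1, hφ⟩ := exists_form (R := R) (σ 1) (σ s) fun r t hrt => by
    rw [hσ, hσ, mul_one] at hrt
    have h := (e0 P).symm.injective hrt
    have hy0 := congrArg evy h
    rw [map_mul, hsy, mul_zero] at hy0
    have ht : t = 0 := hκ y zy hzy (show evy (κ t) = evy (κ 0) by rw [map_zero, map_zero]; exact hy0.symm)
    have hx0 := congrArg evx h
    rw [ht, map_zero, map_zero, map_mul, hsx] at hx0
    have hbx : evx b ≠ 0 := fun hb0 => hϖ.ne_zero (hκ x zx hzx (show evx (κ ϖ) = evx (κ 0) by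
      rw [map_zero, map_zero]; exact hb0))
    refine hκ x zx hzx (show evx (κ r) = evx (κ 0) from ?_)
    rw [map_zero, map_zero]
    exact (mul_eq_zero.1 hx0).resolve_right (pow_ne_zero N hbx)
  let δ : Coh.HH X P 0 →ₗ[R] Coh.HH X S.X₁ 1 :=
    { toFun := delta hS 0
      map_add' := map_add _
      map_smul' := fun r v => (delta hS 0).map_smul (Coh.toGlobal p r) v }
  have hδ : Function.Surjective δ := fun v =>
    (exact_delta_hmap hS 0 v).1 (Subsingleton.elim (α := Coh.HH X (Coh.structureModule X) 1) _ _)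
  have hker : ∀ v, δ v = 0 → φ v = 0 := fun v hv => by
    obtain ⟨w, rfl⟩ := (exact_hmap_delta hS 0 v).1 hv
    obtain ⟨r, hr⟩ := hconst (show Coh.Γtop X from e0 (Coh.structureModule X) w)
    have h2 : hmap S.g 0 w = r • σ 1 := by
      rw [hσ, mul_one]
      refine (e0 P).injective ?_
      rw [e0_hmap]
      refine Eq.trans ?_ ((e0 P).apply_symm_apply (κ r)).symm
      show j.app ⊤ _ = j.appTop (show Γ(X, ⊤) from Coh.toGlobal p r)
      rw [hr]
      rfl
    rw [h2, map_smul, hφ1, smul_zero]
  refine ⟨S.X₁, Groth.L29.DC.isQCoh_kernel' _ hO.1 hP.1,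
    (LinearMap.ker δ).liftQ φ hker ∘ₗ (δ.quotKerEquivOfSurjective hδ).symm.toLinearMap, fun h0 => hφ ?_⟩
  refine LinearMap.ext fun v => ?_
  have h1 := LinearMap.congr_fun h0 (δ v)
  rw [LinearMap.comp_apply, LinearEquiv.coe_coe,
    show (δ.quotKerEquivOfSurjective hδ).symm (δ v) = Submodule.Quotient.mk v from
      (LinearEquiv.symm_apply_eq _).2 rfl] at h1
  exact h1

end Groth.L05.Models.DualFree
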