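import Groth.Agent.L05.Models.RegularFibre
import Groth.Agent.L05.Models.ExtendMap
import Groth.Agent.L05.GeomMult.Components
import Groth.Agent.L05.InterPair.Negative
import Mathlib.RingTheory.OrderOfVanishing.Basic
import Mathlib.RingTheory.OrderOfVanishing.Noetherian
import Mathlib.RingTheory.LocalRing.Quotient
import Mathlib.AlgebraicGeometry.ZariskisMainTheorem
import Groth.Prelude.Def_CurvBase

/-!
# The degree of a closed point of the generic fibre through the multiplicities of the closed fibre

If the closure of a closed point of the generic fibre of a regular fibred surface meets the closed fibre in a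
single point `x`, its degree is the order at `x` of the uniformizer on the closure, hence a positive combination
of the multiplicities of the components through `x`.
-/

set_option autoImplicit false
set_option backward.isDefEq.respectTransparency false
set_option linter.style.haveILetI false
set_option linter.unusedSectionVars false
universe u

open CategoryTheory CategoryTheory.Limits AlgebraicGeometry TopologicalSpace Groth.L22
open Groth.L05.MinModel (gen range_model isOpenImmersion_model)

noncomputable section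

namespace Groth.L05.Models.MultiSection

open Groth.L05.FibreDecomp

variable {R : Type u} [CommRing R] [IsDomain R] [IsDiscreteValuationRing R]

/-- The rank of a finite local domain over the discrete valuation ring is the order of a uniformizer. -/
theorem finrank_eq_ord [IsAlgClosed (IsLocalRing.ResidueField R)] {S : Type u} [CommRing S] [IsDomain S]
    [IsLocalRing S] [Algebra R S] [Module.Finite R S] (hinj : Function.Injective (algebraMap R S))
    {ϖ : R} (hϖ : Irreducible ϖ) (hu : ¬ IsUnit (algebraMap R S ϖ)) :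
    (Module.finrank R S : ℕ∞) = Ring.ord S (algebraMap R S ϖ) := by
  haveI : FaithfulSMul R S := (faithfulSMul_iff_algebraMap_injective R S).2 hinj
  haveI : Module.IsTorsionFree R S := inferInstance
  haveI : Module.Free R S := Module.free_of_finite_type_torsion_free'
  let J : Ideal S := (IsLocalRing.maximalIdeal R).map (algebraMap R S)
  have hJ : J = Ideal.span {algebraMap R S ϖ} := by
    show Ideal.map _ _ = _
    rw [hϖ.maximalIdeal_eq, Ideal.map_span, Set.image_singleton]
  haveI : Nontrivial (S ⧸ J) := Ideal.Quotient.nontrivial_iff.2 (by rw [hJ]; rwa [Ne, Ideal.span_singleton_eq_top])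
  haveI : IsLocalRing (S ⧸ J) := IsLocalRing.of_surjective' _ Ideal.Quotient.mk_surjective
  letI : Field (R ⧸ IsLocalRing.maximalIdeal R) := inferInstanceAs (Field (IsLocalRing.ResidueField R))
  haveI : IsAlgClosed (R ⧸ IsLocalRing.maximalIdeal R) := inferInstanceAs (IsAlgClosed (IsLocalRing.ResidueField R))
  haveI : Module.Finite (R ⧸ IsLocalRing.maximalIdeal R) (S ⧸ J) :=
    Module.Finite.of_restrictScalars_finite R _ _
  have h := Groth.L05.GeomMult.length_eq_finrank (R ⧸ IsLocalRing.maximalIdeal R) (S ⧸ J)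
  rw [IsLocalRing.finrank_quotient_map] at h
  rw [← h, ← Module.length_eq_of_surjective (S := S) (R := S ⧸ J) (M := S ⧸ J) Ideal.Quotient.mk_surjective]
  exact (Submodule.quotEquivOfEq J _ hJ).length_eq

/-- The order of a product of powers of non-units is a positive combination of the exponents. -/
theorem exists_coeff_of_ord {S : Type u} [CommRing S] [IsDomain S] {ι : Type} [Fintype ι]
    (y : ι → S) (hy : ∀ i, ¬ IsUnit (y i)) (a : ι → ℕ) (N : ℕ) (hne : ∀ i, a i ≠ 0 → y i ≠ 0)
    (h : Ring.ord S (∏ i, y i ^ a i) = N) :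
    ∃ c : ι → ℕ, (∀ i, 1 ≤ c i) ∧ N = ∑ i, c i * a i := by
  classical
  have key : ∀ s : Finset ι, Ring.ord S (∏ i ∈ s, y i ^ a i) = ∑ i ∈ s, a i • Ring.ord S (y i) := by
    intro s
    induction s using Finset.induction with
    | empty => simp
    | insert j s hj ih =>
      rw [Finset.prod_insert hj, Finset.sum_insert hj, Ring.ord_mul S (mem_nonZeroDivisors_of_ne_zero
        (Finset.prod_ne_zero_iff.2 fun i _ => ?_)), ih]
      · congr 1
        rcases Nat.eq_zero_or_pos (a j) with h0 | h0
        · simp [h0]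
        · exact Ring.ord_pow (mem_nonZeroDivisors_of_ne_zero (hne j h0.ne')) _
      · rcases Nat.eq_zero_or_pos (a i) with h0 | h0
        · simp [h0]
        · exact pow_ne_zero _ (hne i h0.ne')
  rw [key] at h
  have hpos : ∀ i, 1 ≤ Ring.ord S (y i) := fun i => by
    refine ENat.one_le_iff_ne_zero.2 fun h0 => hy i ?_
    rw [Ring.ord, Module.length_eq_zero_iff, Ideal.Quotient.subsingleton_iff,
      Ideal.span_singleton_eq_top] at h0
    exact h0
  have hfin : ∀ i, a i ≠ 0 → Ring.ord S (y i) ≠ ⊤ := fun i hi htop => by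
    have hle := Finset.single_le_sum (f := fun i => a i • Ring.ord S (y i)) (fun _ _ => zero_le) (Finset.mem_univ i)
    rw [h] at hle
    simp only [htop, nsmul_eq_mul] at hle
    rw [ENat.mul_top (by exact_mod_cast hi)] at hle
    exact absurd (top_le_iff.1 hle) (ENat.natCast_ne_top N)
  refine ⟨fun i => max 1 (Ring.ord S (y i)).toNat, fun i => le_max_left _ _, ?_⟩
  have hterm : ∀ i, a i • Ring.ord S (y i) = ((max 1 (Ring.ord S (y i)).toNat * a i : ℕ) : ℕ∞) := fun i => by
    rcases eq_or_ne (a i) 0 with h0 | h0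
    · simp [h0]
    · obtain ⟨m, hm⟩ := ENat.ne_top_iff_exists.1 (hfin i h0)
      have hm1 : 1 ≤ m := by have := hpos i; rw [← hm] at this; exact_mod_cast this
      rw [← hm, ENat.toNat_natCast, max_eq_right hm1, nsmul_eq_mul, Nat.cast_mul, mul_comm]
  simp only [hterm] at h
  rw [← Nat.cast_sum] at h
  exact (Nat.cast_inj.1 h).symm

variable (R) in
theorem main [HenselianLocalRing R] (hk : IsAlgClosed (IsLocalRing.ResidueField R))
    (C : Scheme.{u}) [C.Over (Spec (CommRingCat.of (FractionRing R)))]
    (X : Over (Spec (CommRingCat.of R))) [IsIntegral X.left]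
    (hreg : Models.IsRegularScheme X.left) [IsProper X.hom] [Flat X.hom]
    (hdim : topologicalKrullDim X.left = 2)
    (iX : C ⟶ X.left)
    (hiX : IsPullback iX (C ↘ Spec (CommRingCat.of (FractionRing R))) X.hom (gen R))
    (x : X.left) (hxs : x ∈ Models.specialFibreSet R X)
    {n : ℕ} (Γ : Fin n → ArSurf.VertComp R X)
    (hinj : Function.Injective fun i => Set.range ((Γ i).ι.base : (Γ i).curve.left → X.left))
    (hΓ : ∀ Z ∈ Models.fibreComponents R X,
      x ∈ Z ↔ ∃ i, Set.range ((Γ i).ι.base : (Γ i).curve.left → X.left) = Z)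
    (P : C) (hP : IsClosed ({P} : Set C))
    (hPx : closure ({iX.base P} : Set X.left) ∩ Models.specialFibreSet R X = {x}) :
    ∃ c : Fin n → ℕ, (∀ i, 1 ≤ c i) ∧
      @Module.finrank (FractionRing R) (C.residueField P) _ _
        (Curv2.resAlgebra (FractionRing R) C P).toModule = ∑ i, c i * Models.mult R X (Γ i) := by
  classical
  haveI := hk
  haveI : IsLocallyNoetherian X.left := LocallyOfFiniteType.isLocallyNoetherian X.hom
  haveI hiso : IsOpenImmersion iX := isOpenImmersion_model hiX
  obtain ⟨ϖ, hϖ⟩ := IsDiscreteValuationRing.exists_irreducible R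
  -- the closure of the point
  set η : X.left := iX.base P with hη
  have hηs : η ∉ Models.specialFibreSet R X := fun h => by
    have h' : η ∈ Set.range iX := ⟨P, rfl⟩
    rw [range_model hiX] at h'
    exact h' h
  have hxcl : x ∈ closure ({η} : Set X.left) := (hPx.ge rfl).1
  have hs : η ⤳ x := specializes_iff_mem_closure.2 hxcl
  have hne : η ≠ x := fun h => hηs (h ▸ hxs)
  have hmem : ∀ z ∈ closure ({η} : Set X.left), z = η ∨ z = x := fun z hz => by
    by_cases hzs : z ∈ Models.specialFibreSet R X
    · exact Or.inr (hPx.le ⟨hz, hzs⟩)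
    · obtain ⟨c, rfl⟩ : z ∈ Set.range iX := by rw [range_model hiX]; exact hzs
      refine Or.inl (congrArg iX.base ?_)
      have hPc : P ⤳ c := iX.isOpenEmbedding.isInducing.specializes_iff.1 (specializes_iff_mem_closure.2 hz)
      exact hPc.mem_closed hP rfl
  -- an affine chart
  obtain ⟨V, hV, hxV, -⟩ := exists_isAffineOpen_mem_and_subset (U := (⊤ : X.left.Opens)) (x := x) trivial
  let U : X.left.affineOpens := ⟨V, hV⟩
  have hηV : η ∈ V := hs.mem_open V.2 hxV
  letI : Algebra R Γ(X.left, V) := (res U).toAlgebra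
  let pη : Ideal Γ(X.left, V) := (hV.primeIdealOf ⟨η, hηV⟩).asIdeal
  let mx : Ideal Γ(X.left, V) := (hV.primeIdealOf ⟨x, hxV⟩).asIdeal
  haveI hpη : pη.IsPrime := (hV.primeIdealOf ⟨η, hηV⟩).2
  haveI hmx : mx.IsPrime := (hV.primeIdealOf ⟨x, hxV⟩).2
  have hle : pη ≤ mx := LocalDim.le_of_specializes hV hηV hxV hs
  have hprimes : ∀ Q : Ideal Γ(X.left, V), Q.IsPrime → pη ≤ Q → Q = pη ∨ Q = mx := fun Q hQ hQle => by
    let Q' : Spec Γ(X.left, V) := ⟨Q, hQ⟩
    have h1 : η ⤳ hV.fromSpec Q' := by
      exact (Inseparable.of_eq (hV.fromSpec_primeIdealOf ⟨η, hηV⟩).symm).specializes.trans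
        (LocalDim.fromSpec_specializes hV (q := hV.primeIdealOf ⟨η, hηV⟩) (q' := Q') hQle)
    rcases hmem _ (specializes_iff_mem_closure.1 h1) with h | h
    · left
      exact congrArg PrimeSpectrum.asIdeal (hV.fromSpec.isOpenEmbedding.injective
        (h.trans (hV.fromSpec_primeIdealOf ⟨η, hηV⟩).symm))
    · right
      exact congrArg PrimeSpectrum.asIdeal (hV.fromSpec.isOpenEmbedding.injective
        (h.trans (hV.fromSpec_primeIdealOf ⟨x, hxV⟩).symm))
  let S := Γ(X.left, V) ⧸ pη
  let q : Γ(X.left, V) →+* S := Ideal.Quotient.mk pη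
  have hM0 : (mx.map q).comap q = mx := by
    rw [Ideal.comap_map_of_surjective q Ideal.Quotient.mk_surjective, ← RingHom.ker_eq_comap_bot,
      Ideal.mk_ker, sup_eq_left.2 hle]
  have hM0top : mx.map q ≠ ⊤ := fun h => hmx.ne_top (by rw [← hM0, h, Ideal.comap_top])
  have hmax : ∀ M : Ideal S, M.IsMaximal → M = mx.map q := fun M hM => by
    refine hM.eq_of_le hM0top ?_
    have hle' : pη ≤ M.comap q := fun b hb => by
      rw [Ideal.mem_comap, show q b = 0 from Ideal.Quotient.eq_zero_iff_mem.2 hb]; exact zero_mem _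
    rw [← Ideal.map_comap_of_surjective q Ideal.Quotient.mk_surjective M]
    rcases hprimes _ (Ideal.IsPrime.comap _) hle' with h | h <;> rw [h]
    exact Ideal.map_mono hle
  haveI : IsLocalRing S := by
    obtain ⟨M, hM⟩ := Ideal.exists_maximal S
    exact IsLocalRing.of_unique_max_ideal ⟨M, hM, fun M' hM' => (hmax M' hM').trans (hmax M hM).symm⟩
  have hmxmax : IsLocalRing.maximalIdeal S = mx.map q := hmax _ inferInstance
  -- finiteness
  haveI : Module.Finite R S := by
    let D : X.left.IdealSheafData :=
      Scheme.IdealSheafData.vanishingIdeal ⟨closure ({η} : Set X.left), isClosed_closure⟩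
    have hrange : Set.range D.subschemeι = closure ({η} : Set X.left) := by
      rw [Scheme.IdealSheafData.range_subschemeι, Scheme.IdealSheafData.coe_support_vanishingIdeal]
      rfl
    have hfin : (Set.univ : Set D.subscheme).Finite := by
      refine Set.Finite.of_finite_image ?_ D.subschemeι.isClosedEmbedding.injective.injOn
      rw [Set.image_univ, hrange]
      exact (Set.toFinite {η, x}).subset fun z hz => hmem z hz
    let π := D.subschemeι ≫ X.hom
    haveI : LocallyQuasiFinite π :=
      LocallyQuasiFinite.of_finite_preimage_singleton π fun s => hfin.subset (Set.subset_univ _)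
    haveI : IsFinite π := IsFinite.of_isProper_of_locallyQuasiFinite π
    have htop : D.subschemeι ⁻¹ᵁ V = ⊤ := top_le_iff.1 fun z _ => by
      show D.subschemeι z ∈ V
      rcases hmem _ (hrange.le ⟨z, rfl⟩) with h | h <;> rw [h]
      exacts [hηV, hxV]
    let g : R →+* (Γ(X.left, V) ⧸ D.ideal U) := (Ideal.Quotient.mk _).comp (res U)
    have hg : g.Finite := by
      have h1 : (π.appLE ⊤ (D.subschemeι ⁻¹ᵁ V) (fun _ _ => trivial)).hom.Finite := by
        rw [Scheme.Hom.appLE, CommRingCat.hom_comp]
        refine RingHom.Finite.comp (RingHom.Finite.of_surjective _ ?_) (IsFinite.finite_app π ⊤ (isAffineOpen_top _))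
        haveI : IsIso (homOfLE (show D.subschemeι ⁻¹ᵁ V ≤ π ⁻¹ᵁ ⊤ from fun _ _ => trivial)) :=
          ⟨homOfLE (by rw [htop]; exact le_top), rfl, rfl⟩
        exact (asIso (D.subscheme.presheaf.map (homOfLE _).op)).commRingCatIsoToRingEquiv.surjective
      have h2 : (π.appLE ⊤ (D.subschemeι ⁻¹ᵁ V) (fun _ _ => trivial)) ≫ (D.subschemeObjIso U).hom =
          X.hom.appLE ⊤ V (fun _ _ => trivial) ≫ CommRingCat.ofHom (Ideal.Quotient.mk (D.ideal U)) := by
        rw [Scheme.Hom.comp_appLE, Scheme.Hom.appLE, Scheme.Hom.appLE]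
        simp only [Category.assoc]
        congr 1
        have hnat := D.subschemeι.naturality (homOfLE (show V ≤ X.hom ⁻¹ᵁ ⊤ from fun _ _ => trivial)).op
        refine Eq.trans ?_ (congrArg (fun φ => φ ≫ (D.subschemeObjIso U).hom) hnat.symm) |>.trans ?_
        · rfl
        · rw [Category.assoc, show D.subschemeι.app V = D.subschemeι.app U.1 from rfl, D.subschemeι_app U]
          simp
      have h3 : (((π.appLE ⊤ (D.subschemeι ⁻¹ᵁ V) (fun _ _ => trivial)) ≫ (D.subschemeObjIso U).hom).hom.comp
          (Scheme.ΓSpecIso (CommRingCat.of R)).inv.hom).Finite := by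
        rw [CommRingCat.hom_comp]
        exact ((RingHom.Finite.of_surjective _
          (D.subschemeObjIso U).commRingCatIsoToRingEquiv.surjective).comp h1).comp
          (RingHom.Finite.of_surjective _ (Scheme.ΓSpecIso (CommRingCat.of R)).symm.commRingCatIsoToRingEquiv.surjective)
      rw [h2] at h3
      exact h3
    have hDle : D.ideal U ≤ pη := fun b hb => by
      change b ∈ (Scheme.IdealSheafData.vanishingIdeal _).ideal U at hb
      rw [Scheme.IdealSheafData.vanishingIdeal_ideal, PrimeSpectrum.mem_vanishingIdeal] at hb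
      exact hb _ (show hV.fromSpec _ ∈ closure ({η} : Set X.left) by
        rw [hV.fromSpec_primeIdealOf ⟨η, hηV⟩]; exact subset_closure rfl)
    exact RingHom.finite_algebraMap.1
      ((RingHom.Finite.of_surjective (Ideal.Quotient.factor hDle) (Ideal.Quotient.factor_surjective _)).comp hg)
  have hinjS : Function.Injective (algebraMap R S) := by
    refine (injective_iff_map_eq_zero _).2 fun a ha => by_contra fun h0 => ?_
    obtain ⟨k, u, rfl⟩ := IsDiscreteValuationRing.eq_unit_mul_pow_irreducible h0 hϖ
    rw [map_mul, map_pow, mul_eq_zero, or_iff_right (u.isUnit.map (algebraMap R S)).ne_zero] at ha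
    refine hηs (mem_specialFibreSet.2 fun r hr hu => ?_)
    rw [hϖ.maximalIdeal_eq, Ideal.mem_span_singleton'] at hr
    obtain ⟨r', rfl⟩ := hr
    rw [map_mul] at hu
    have hu' := isUnit_of_mul_isUnit_right hu
    rw [← germ_res U η hηV] at hu'
    letI : Algebra Γ(X.left, V) (X.left.presheaf.stalk η) := (X.left.presheaf.germ V η hηV).hom.toAlgebra
    haveI : IsLocalization.AtPrime (X.left.presheaf.stalk η) pη := hV.isLocalization_stalk ⟨η, hηV⟩
    exact (IsLocalization.AtPrime.isUnit_to_map_iff (X.left.presheaf.stalk η) pη _).1 hu'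
      (Ideal.Quotient.eq_zero_iff_mem.1 (eq_zero_of_pow_eq_zero ha))
  -- the degree of the point
  have hdeg : @Module.finrank (FractionRing R) (C.residueField P) _ _
      (Curv2.resAlgebra (FractionRing R) C P).toModule = Module.finrank R S := by
    letI : Algebra (FractionRing R) (C.residueField P) := Curv2.resAlgebra (FractionRing R) C P
    letI : Algebra Γ(X.left, V) (X.left.presheaf.stalk η) := (X.left.presheaf.germ V η hηV).hom.toAlgebra
    haveI : IsLocalization.AtPrime (X.left.presheaf.stalk η) pη := hV.isLocalization_stalk ⟨η, hηV⟩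
    let ψ : Γ(X.left, V) →+* C.residueField P :=
      (C.residue P).hom.comp ((iX.stalkMap P).hom.comp (X.left.presheaf.germ V η hηV).hom)
    have hψ : ψ = ((iX.residueFieldMap P).hom.comp (X.left.residue η).hom).comp
        (X.left.presheaf.germ V η hηV).hom := by
      ext b
      exact (congrArg (fun φ => φ.hom ((X.left.presheaf.germ V η hηV).hom b))
        (Scheme.residue_residueFieldMap (f := iX) P)).symm
    have hkψ : ∀ b, ψ b = 0 ↔ b ∈ pη := fun b => by
      rw [hψ, RingHom.comp_apply, RingHom.comp_apply, map_eq_zero]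
      show IsLocalRing.residue _ _ = 0 ↔ _
      rw [IsLocalRing.residue_eq_zero_iff]
      exact IsLocalization.AtPrime.to_map_mem_maximal_iff (X.left.presheaf.stalk η) pη b
    letI : Algebra S (C.residueField P) :=
      (Ideal.Quotient.lift pη ψ fun b hb => (hkψ b).2 hb).toAlgebra
    have hψR : ∀ a : R, ψ (res U a) = algebraMap (FractionRing R) (C.residueField P) (algebraMap R (FractionRing R) a) := by
      intro a
      show C.residue P (iX.stalkMap P (X.left.presheaf.germ V η hηV (res U a))) = _
      rw [germ_res U η hηV]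
      show C.residue P (iX.stalkMap P (X.left.presheaf.germ ⊤ η trivial (Coh.toGlobal X.hom a))) =
        C.residue P (C.presheaf.germ ⊤ P trivial (Coh.toGlobal (C ↘ _) (algebraMap R (FractionRing R) a)))
      congr 1
      rw [Scheme.Hom.germ_stalkMap_apply]
      show C.presheaf.germ ⊤ P trivial _ = _
      congr 1
      show ((Scheme.ΓSpecIso (CommRingCat.of R)).inv ≫ X.hom.appTop ≫ iX.appTop).hom a =
        (CommRingCat.ofHom (algebraMap R (FractionRing R)) ≫ (Scheme.ΓSpecIso _).inv ≫
          (C ↘ Spec (CommRingCat.of (FractionRing R))).appTop).hom a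
      rw [← Scheme.Hom.comp_appTop, hiX.w, Scheme.Hom.comp_appTop,
        Scheme.ΓSpecIso_inv_naturality_assoc]
    letI : Algebra R (C.residueField P) :=
      ((algebraMap (FractionRing R) (C.residueField P)).comp (algebraMap R (FractionRing R))).toAlgebra
    haveI : IsScalarTower R (FractionRing R) (C.residueField P) := IsScalarTower.of_algebraMap_eq fun _ => rfl
    haveI : IsScalarTower R S (C.residueField P) := IsScalarTower.of_algebraMap_eq fun a => (hψR a).symm
    haveI : FaithfulSMul S (C.residueField P) := (faithfulSMul_iff_algebraMap_injective _ _).2 <| by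
      refine (injective_iff_map_eq_zero _).2 fun s hs => ?_
      obtain ⟨b, rfl⟩ := Ideal.Quotient.mk_surjective s
      exact Ideal.Quotient.eq_zero_iff_mem.2 ((hkψ b).1 hs)
    haveI : IsFractionRing S (C.residueField P) := by
      refine IsFractionRing.of_field S (C.residueField P) fun z => ?_
      obtain ⟨w, rfl⟩ : ∃ w, (iX.residueFieldMap P).hom w = z := by
        obtain ⟨v, rfl⟩ := C.residue_surjective P z
        obtain ⟨t, rfl⟩ := iX.stalkMap_surjective P v
        exact ⟨X.left.residue η t, congrArg (fun φ => φ.hom t) (Scheme.residue_residueFieldMap (f := iX) P)⟩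
      obtain ⟨t, rfl⟩ := X.left.residue_surjective η w
      obtain ⟨b, s, rfl⟩ := IsLocalization.exists_mk'_eq pη.primeCompl t
      refine ⟨Ideal.Quotient.mk pη b, Ideal.Quotient.mk pη s, ?_⟩
      symm
      show ψ b / ψ s = (iX.residueFieldMap P).hom ((X.left.residue η).hom _)
      rw [div_eq_iff (fun h => s.2 ((hkψ _).1 h)), hψ]
      show (iX.residueFieldMap P).hom ((X.left.residue η).hom _) =
        (iX.residueFieldMap P).hom ((X.left.residue η).hom (IsLocalization.mk' _ b s)) *
          (iX.residueFieldMap P).hom ((X.left.residue η).hom _)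
      rw [← map_mul, ← map_mul]
      exact congrArg _ (congrArg _ (IsLocalization.mk'_spec (X.left.presheaf.stalk η) b s).symm)
    exact IsFractionRing.finrank_eq R (FractionRing R) S (C.residueField P)
  -- the local ring at the point
  haveI := hreg x
  haveI := Groth.L01.isDomain_of_regular (X.left.presheaf.stalk x)
  haveI := Groth.L10.RegUFD.isUFD (X.left.presheaf.stalk x)
  letI : Algebra Γ(X.left, V) (X.left.presheaf.stalk x) := (X.left.presheaf.germ V x hxV).hom.toAlgebra
  haveI : IsLocalization.AtPrime (X.left.presheaf.stalk x) mx := hV.isLocalization_stalk ⟨x, hxV⟩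
  have hunit : ∀ s : mx.primeCompl, IsUnit (q s) := fun s => IsLocalRing.notMem_maximalIdeal.1 fun h => by
    rw [hmxmax] at h
    exact s.2 (hM0.le (Ideal.mem_comap.2 h))
  let φ : X.left.presheaf.stalk x →+* S := IsLocalization.lift (M := mx.primeCompl) hunit
  have hφπ : φ (Models.stalkHom R X x ϖ) = algebraMap R S ϖ := by
    rw [← germ_res U x hxV]
    exact IsLocalization.lift_eq hunit _
  have hφloc : ∀ z, ¬ IsUnit z → ¬ IsUnit (φ z) := fun z hz => by
    obtain ⟨b, s, rfl⟩ := IsLocalization.exists_mk'_eq mx.primeCompl z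
    have hb : b ∈ mx := by
      by_contra hb
      exact hz ((IsLocalization.AtPrime.isUnit_mk'_iff (X.left.presheaf.stalk x) mx b s).2 hb)
    rw [← IsLocalRing.mem_maximalIdeal _ |>.trans mem_nonunits_iff, hmxmax]
    have h1 : φ (IsLocalization.mk' _ b s) * q s = q b := by
      rw [← IsLocalization.lift_eq (S := X.left.presheaf.stalk x) hunit (s : Γ(X.left, V)), ← map_mul,
        IsLocalization.mk'_spec, IsLocalization.lift_eq]
    have h2 : φ (IsLocalization.mk' _ b s) * q s ∈ mx.map q := h1 ▸ Ideal.mem_map_of_mem q hb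
    exact (Ideal.mul_unit_mem_iff_mem _ (hunit s)).1 h2
  -- all components
  obtain ⟨N, Δ, hΔ, -⟩ := Groth.L05.GeomMult.exists_componentList (X := X) hdim
  let s : Finset (Fin N) := Finset.univ.filter fun j => x ∈ ((Δ j).ι.ker.support : Set X.left)
  have hcomp : ∀ i, Set.range ((Γ i).ι.base : (Γ i).curve.left → X.left) ∈ Models.fibreComponents R X := by
    intro i
    have hξ := isGenericPoint_genPtOf (Γ i)
    rw [support_ker] at hξ
    have hξs : Models.genPtOf R X (Γ i) ∈ Models.specialFibreSet R X := by
      show X.hom ((Γ i).ι _) = IsLocalRing.closedPoint R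
      rw [← Scheme.Hom.comp_apply, (Γ i).w, Scheme.Hom.comp_apply]
      exact Groth.L05.GeomMult.range_pt.le ⟨_, rfl⟩
    rw [← hξ.def]
    refine Groth.L05.Models.closure_mem_fibreComponents X hdim.le (fun hcl => ?_) hξs fun hgs => ?_
    · have h1 := Groth.L05.InterPair.dim_genPtOf_of_surface hreg hdim (Γ i)
      have h2 := (Γ i).dim_eq
      haveI : Subsingleton (Γ i).curve.left := ⟨fun a b => (Γ i).ι.isClosedEmbedding.injective (by
        have ha : (Γ i).ι a ∈ ({Models.genPtOf R X (Γ i)} : Set X.left) :=
          hcl.closure_eq ▸ hξ.def.symm ▸ ⟨a, rfl⟩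
        have hb : (Γ i).ι b ∈ ({Models.genPtOf R X (Γ i)} : Set X.left) :=
          hcl.closure_eq ▸ hξ.def.symm ▸ ⟨b, rfl⟩
        exact ha.trans hb.symm)⟩
      have h0 : topologicalKrullDim (Γ i).curve.left ≤ 0 := by
        haveI : DiscreteTopology (Γ i).curve.left := inferInstance
        exact topologicalKrullDim_zero_of_discreteTopology _
      rw [h2] at h0
      exact absurd h0 (by norm_num)
    · exact hηs ((genericPoint_specializes η).mem_closed (Models.isClosed_specialFibreSet R X) hgs)
  have hσ : ∀ i, ∃ j, Set.range ((Δ j).ι.base : (Δ j).curve.left → X.left) =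
      Set.range ((Γ i).ι.base : (Γ i).curve.left → X.left) := fun i => hΔ.2.ge (hcomp i)
  choose σ hσ using hσ
  have hσmem : ∀ i, σ i ∈ s := fun i => Finset.mem_filter.2 ⟨Finset.mem_univ _, by
    rw [support_ker, hσ]; exact (hΓ _ (hcomp i)).2 ⟨i, rfl⟩⟩
  have hmult : ∀ i, Models.mult R X (Δ (σ i)) = Models.mult R X (Γ i) := fun i => by
    have hg : Models.genPtOf R X (Δ (σ i)) = Models.genPtOf R X (Γ i) :=
      (isGenericPoint_genPtOf (Δ (σ i))).eq (by
        rw [support_ker, hσ, ← support_ker]; exact isGenericPoint_genPtOf (Γ i))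
    show (Module.length (X.left.presheaf.stalk _) _).toNat = (Module.length (X.left.presheaf.stalk _) _).toNat
    rw [hg]
  have hgen : ∀ j ∈ s, ∃ t, Prime t ∧ Div.stalkIdeal (Δ j).ι.ker U x hxV = Ideal.span {t} := fun j hj => by
    haveI := isIntegral_subscheme_ker (Δ j)
    exact exists_prime_generator (Δ j).ι.ker U x hxV (isGenericPoint_genPtOf (Δ j))
      (dim_genPtOf hreg hΔ j) (Finset.mem_filter.1 hj).2
  choose! t ht htspan using hgen
  have hπ : Ideal.span {Models.stalkHom R X x ϖ} = Ideal.span {∏ j ∈ s, t j ^ Models.mult R X (Δ j)} := by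
    calc Ideal.span {Models.stalkHom R X x ϖ}
        = Div.stalkIdeal (Models.specialFibreIdeal R X) U x hxV := by
          rw [stalkIdeal_specialFibreIdeal, hϖ.maximalIdeal_eq, Ideal.map_span, Set.image_singleton]
      _ = Div.stalkIdeal (∏ j, (Δ j).ι.ker ^ Models.mult R X (Δ j)) U x hxV := by
          rw [← specialFibreIdeal_eq_prod hreg hΔ]
      _ = ∏ j, Div.stalkIdeal (Δ j).ι.ker U x hxV ^ Models.mult R X (Δ j) := by
          rw [Div.stalkIdeal, ideal_prod]
          refine (map_prod (Ideal.mapHom (X.left.presheaf.germ U.1 x hxV).hom) _ _).trans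
            (Finset.prod_congr rfl fun j _ => ?_)
          show Ideal.map _ _ = _
          rw [Scheme.IdealSheafData.ideal_pow, Pi.pow_apply, Ideal.map_pow]
          rfl
      _ = _ := by
          rw [← Ideal.prod_span_singleton, ← Finset.prod_subset (Finset.subset_univ s) fun j _ hj => by
            rw [stalkIdeal_eq_top _ U x hxV fun h => hj (Finset.mem_filter.2 ⟨Finset.mem_univ j, h⟩),
              ← Ideal.one_eq_top, one_pow]]
          refine Finset.prod_congr rfl fun j hj => ?_
          rw [htspan j hj, Ideal.span_singleton_pow]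
  have hbij : ∏ j ∈ s, t j ^ Models.mult R X (Δ j) = ∏ i, t (σ i) ^ Models.mult R X (Γ i) := by
    refine (Finset.prod_bij (fun i _ => σ i) (fun i _ => hσmem i) (fun a _ b _ h => hinj ?_)
      (fun j hj => ?_) fun i _ => by rw [hmult]).symm
    · show Set.range _ = Set.range _
      rw [← hσ a, ← hσ b, show σ a = σ b from h]
    · have hj' : x ∈ Set.range ((Δ j).ι.base : (Δ j).curve.left → X.left) := by
        rw [← support_ker]; exact (Finset.mem_filter.1 hj).2
      obtain ⟨i, hi⟩ := (hΓ _ (hΔ.2 ▸ ⟨j, rfl⟩)).1 hj'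
      exact ⟨i, Finset.mem_univ i, hΔ.1 ((hσ i).trans hi)⟩
  rw [hbij, Ideal.span_singleton_eq_span_singleton] at hπ
  have hord : Ring.ord S (∏ i, φ (t (σ i)) ^ Models.mult R X (Γ i)) = (Module.finrank R S : ℕ∞) := by
    have hu : ¬ IsUnit (algebraMap R S ϖ) := by
      rw [← hφπ]
      exact hφloc _ (mem_specialFibreSet.1 hxs ϖ (by rw [hϖ.maximalIdeal_eq]; exact Ideal.mem_span_singleton_self ϖ))
    rw [finrank_eq_ord hinjS hϖ hu, ← hφπ, Ring.ord_eq_of_associated (hπ.map φ), map_prod]
    simp only [map_pow]
  have hne0 : (∏ i, φ (t (σ i)) ^ Models.mult R X (Γ i)) ≠ 0 := by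
    simp only [← map_pow, ← map_prod]
    intro h0
    have h1 := (hπ.map φ).eq_zero_iff.2 h0
    rw [hφπ, map_eq_zero_iff _ hinjS] at h1
    exact hϖ.ne_zero h1
  obtain ⟨c, hc, hsum⟩ := exists_coeff_of_ord (fun i => φ (t (σ i)))
    (fun i => hφloc _ (ht _ (hσmem i)).not_isUnit) (fun i => Models.mult R X (Γ i)) _
    (fun i hi h0 => hne0 (Finset.prod_eq_zero (Finset.mem_univ i) (by
      show φ _ ^ _ = 0
      rw [show φ (t (σ i)) = 0 from h0, zero_pow hi]))) hord
  exact ⟨c, hc, hdeg.trans hsum⟩

end Groth.L05.Models.MultiSection
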