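import Groth.Agent.L05.Models.PicTower
import Groth.Agent.L05.GeomMult.Basic
import Groth.Agent.L05.MinModel.Basic
import Groth.Agent.L12.CurveFam.ConstFun
import Groth.Agent.L21.PlaneCurve.Plane
import Groth.Agent.L21.Curve.NormalConnected
import Groth.Agent.L08.Cube.SmoothStalk
import Groth.Prelude.Def_ModelsG

/-!
# The Picard group of a regular model and of its closed fibre, over a complete base
-/

set_option autoImplicit false
set_option linter.style.haveILetI false
set_option linter.unusedSectionVars false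
set_option backward.isDefEq.respectTransparency.types false
set_option backward.isDefEq.respectTransparency false
universe u

open CategoryTheory CategoryTheory.Limits AlgebraicGeometry TopologicalSpace
open Groth.L18.PicWitt

noncomputable section

namespace Groth.L05.Models.PicFibre

attribute [local instance] Groth.Agent.AV.InterPic.picLaw

/-- A smooth proper scheme of dimension one with only scalar functions is a curve. -/
theorem isCurve_of_dim {K : Type u} [Field K] (C : Scheme.{u}) (fC : C ⟶ (Spec (CommRingCat.of K)))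
    [IsProper fC] [Smooth fC] (hC0 : Models.hRank K C fC (Coh.structureModule C) 0 = 1)
    (hC1 : topologicalKrullDim C = 1) : Curve.IsSmoothProperCurve K C fC := by
  letI : C.Over (Spec (CommRingCat.of K)) := ⟨fC⟩
  haveI : IsProper (C ↘ Spec (CommRingCat.of K)) := ‹IsProper fC›
  haveI : ConnectedSpace C := Groth.L21.PlaneCurve.connectedSpace_of_h0_eq_one (k := K) hC0
  haveI := Groth.L21.RR.isNoetherian_of_proper (X := C) K
  haveI hCint : IsIntegral C := Groth.L21.NormalTotal.isIntegral_of_connected fun c => by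
    haveI := Groth.L08.Cube.isRegularLocalRing_of_smooth fC c
    exact Groth.L01.isDomain_of_regular _
  exact ⟨inferInstance, inferInstance, hCint, hC1⟩

variable (R : Type u) [CommRing R] [IsDomain R] [IsDiscreteValuationRing R]
  [IsAdicComplete (IsLocalRing.maximalIdeal R) R]

theorem restriction (hk : IsAlgClosed (IsLocalRing.ResidueField R))
    (C X : Scheme.{u}) (fC : C ⟶ Spec (CommRingCat.of (FractionRing R))) (p : X ⟶ Spec (CommRingCat.of R))
    (hC : Curve.IsSmoothProperCurve (FractionRing R) C fC) (hX : Models.IsRegularProperModel R X p C fC)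
    (q : ℕ) (hq : 1 ≤ q) (hqk : (q : IsLocalRing.ResidueField R) ≠ 0) :
    Function.Surjective
        (res (pullback.fst p (Spec.map (CommRingCat.ofHom (algebraMap R (IsLocalRing.ResidueField R)))))) ∧
      ∀ a, res (pullback.fst p (Spec.map (CommRingCat.ofHom (algebraMap R (IsLocalRing.ResidueField R))))) a = 1 →
        ∃! d : PicLoc.PicSet X,
          res (pullback.fst p (Spec.map (CommRingCat.ofHom (algebraMap R (IsLocalRing.ResidueField R))))) d = 1 ∧
            d ^ q = a := by
  haveI := hk
  obtain ⟨hint, -, hdim, -⟩ := Groth.L05.MinModel.surface hC hX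
  obtain ⟨⟨hflat, -, -, g, hg⟩, hproper, -⟩ := hX
  haveI := hint; haveI := hproper
  set I := IsLocalRing.maximalIdeal R
  let j := Spec.map (CommRingCat.ofHom (algebraMap R (IsLocalRing.ResidueField R)))
  let θ : (R ⧸ I ^ (0 + 1)) ≃+* IsLocalRing.ResidueField R := Ideal.quotEquivOfEq (by rw [pow_one])
  let jθ : Spec (CommRingCat.of (IsLocalRing.ResidueField R)) ⟶ Spec (CommRingCat.of (R ⧸ I ^ (0 + 1))) :=
    Spec.map (CommRingCat.ofHom θ.toRingHom)
  haveI : IsIso (CommRingCat.ofHom θ.toRingHom) :=
    (ConcreteCategory.isIso_iff_bijective _).2 θ.bijective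
  have hjθ : jθ ≫ CohB1.specQuot I 0 = j := by
    rw [CohB1.specQuot, ← Spec.map_comp]
    rfl
  let e : pullback p j ⟶ CohB1.thick p I 0 :=
    pullback.map p j p (CohB1.specQuot I 0) (𝟙 X) jθ (𝟙 _) (by simp) (by rw [Category.comp_id, hjθ])
  haveI : IsIso e := inferInstance
  have he : e ≫ CohB1.thickι p I 0 = pullback.fst p j := (pullback.lift_fst _ _ _).trans (Category.comp_id _)
  have hqR : IsUnit (q : R) := by
    refine IsLocalRing.notMem_maximalIdeal.1 fun h => hqk ?_
    rw [← map_natCast (IsLocalRing.residue R) q]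
    exact Ideal.Quotient.eq_zero_iff_mem.2 h
  have hd : topologicalKrullDim (CohB1.thick p I 0) ≤ 1 := by
    haveI := isClosedImmersion_thickι p I 0
    rw [IsHomeomorph.topologicalKrullDim_eq _
      (CohB1.thickι p I 0).isClosedEmbedding.isEmbedding.toHomeomorph.isHomeomorph]
    refine Groth.L05.GeomMult.dim_le_one_of_proper_closed hdim
      (CohB1.thickι p I 0).isClosedEmbedding.isClosed_range fun h => ?_
    haveI : IsIntegral C := hC.2.2.1
    obtain ⟨t, ht⟩ := h.ge (Set.mem_univ (g (genericPoint C)))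
    have h1 : p (g (genericPoint C)) ∈ Set.range (CohB1.specQuot I 0) := by
      refine ⟨CohB1.thickToBase p I 0 t, ?_⟩
      rw [← ht, ← Scheme.Hom.comp_apply, ← Scheme.Hom.comp_apply]
      exact congrArg (fun φ : CohB1.thick p I 0 ⟶ Spec (CommRingCat.of R) => φ t) pullback.condition.symm
    obtain ⟨s, hs⟩ := h1
    rw [← Scheme.Hom.comp_apply, hg.w, Scheme.Hom.comp_apply] at hs
    obtain ⟨ϖ, hϖ⟩ := IsDiscreteValuationRing.exists_irreducible R
    have h2 : ϖ ∈ (CohB1.specQuot I 0 s).asIdeal := by
      show Ideal.Quotient.mk (I ^ (0 + 1)) ϖ ∈ s.asIdeal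
      have : ϖ ∈ I ^ (0 + 1) := by
        rw [pow_one]; exact (IsLocalRing.mem_maximalIdeal _).2 hϖ.not_isUnit
      rw [Ideal.Quotient.eq_zero_iff_mem.2 this]
      exact zero_mem _
    rw [hs] at h2
    change algebraMap R (FractionRing R) ϖ ∈ (fC (genericPoint C)).asIdeal at h2
    exact (fC (genericPoint C)).2.ne_top (Ideal.eq_top_of_isUnit_mem _ h2
      (IsUnit.mk0 _ fun h0 => hϖ.ne_zero ((IsFractionRing.to_map_eq_zero_iff).1 h0)))
  have hres : ∀ a, res (pullback.fst p j) a = res e (res (CohB1.thickι p I 0) a) := fun a => by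
    rw [← res_comp, res_congr he]
  have hinj : Function.Injective (res e) := fun a b hab => by
    have h := congrArg (res (inv e)) hab
    rw [← res_comp, ← res_comp, res_congr (IsIso.inv_hom_id e)] at h
    have hid : ∀ c, res (𝟙 (CohB1.thick p I 0)) c = c := fun c => Subtype.ext (PicLoc.pullCl_id c.1)
    rwa [hid, hid] at h
  have hsurj : Function.Surjective (res e) := fun c => ⟨res (inv e) c, by
    rw [← res_comp, res_congr (IsIso.hom_inv_id e)]
    exact Subtype.ext (PicLoc.pullCl_id c.1)⟩
  refine ⟨fun c => ?_, fun a ha => ?_⟩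
  · obtain ⟨b, rfl⟩ := hsurj c
    obtain ⟨a, rfl⟩ := PicTower.surjective_res' I p hd 0 b
    exact ⟨a, hres a⟩
  · have h1 : ∀ d, res (pullback.fst p j) d = 1 ↔ res (CohB1.thickι p I 0) d = 1 := fun d => by
      rw [hres]
      exact ⟨fun h => hinj (h.trans (map_one _).symm), fun h => by rw [h, map_one]⟩
    obtain ⟨d, ⟨hd0, hdq⟩, huniq⟩ := PicTower.existsUnique_root I p hd hqR
      (PicTower.roots_thick I p rfl hq hqR) a ((h1 a).1 ha)
    exact ⟨d, ⟨(h1 d).2 hd0, hdq⟩, fun y hy => huniq y ⟨(h1 y).1 hy.1, hy.2⟩⟩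

end Groth.L05.Models.PicFibre
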