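import Groth.Agent.L01.Regular
import Groth.Agent.L08.HopfDim
import Groth.Agent.L05.HensTensor.FinLocal
import Mathlib.RingTheory.Regular.RegularSequence
import Mathlib.RingTheory.Ideal.AssociatedPrime.Finiteness
import Mathlib.RingTheory.LocalRing.Length
import Mathlib.Algebra.Module.LocalizedModule.Submodule
import Mathlib.Algebra.Module.LocalizedModule.IsLocalization
import Mathlib.Algebra.Module.LocalizedModule.Exact

/-!
# Slices through general points of the components of the closed fibre
-/

set_option autoImplicit false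
set_option linter.style.haveILetI false

universe u

open RingTheory.Sequence IsLocalRing TensorProduct
open scoped Pointwise

noncomputable section

namespace Groth.L05.Models.Slice

section Exact

variable {R : Type u} [CommRing R] {M₁ M₂ M₃ : Type u} [AddCommGroup M₁] [Module R M₁] [AddCommGroup M₂]
  [Module R M₂] [AddCommGroup M₃] [Module R M₃]

theorem isWeaklyRegular_middle (rs : List R) :
    ∀ {M₁ M₂ M₃ : Type u} [AddCommGroup M₁] [Module R M₁] [AddCommGroup M₂] [Module R M₂] [AddCommGroup M₃]
      [Module R M₃] (f : M₁ →ₗ[R] M₂) (g : M₂ →ₗ[R] M₃), Function.Injective f → Function.Surjective g →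
      Function.Exact f g → IsWeaklyRegular M₁ rs → IsWeaklyRegular M₃ rs → IsWeaklyRegular M₂ rs := by
  induction rs with
  | nil => intros; exact IsWeaklyRegular.nil _ _
  | cons r rs ih =>
    intro M₁ M₂ M₃ _ _ _ _ _ _ f g hf hg hfg h₁ h₃
    rw [isWeaklyRegular_cons_iff] at h₁ h₃ ⊢
    refine ⟨isSMulRegular_of_range_eq_ker hf hfg.linearMap_ker_eq.symm h₁.1 h₃.1, ?_⟩
    refine ih (QuotSMulTop.map r f) (QuotSMulTop.map r g) ?_ (QuotSMulTop.map_surjective r hg)
      (QuotSMulTop.map_exact r hfg hg) h₁.2 h₃.2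
    have h := QuotSMulTop.map_first_exact_on_four_term_exact_of_isSMulRegular_last
      (f₁ := (0 : M₁ →ₗ[R] M₁)) (f₂ := f) (f₃ := g)
      ((LinearMap.exact_zero_iff_injective _ f).2 hf) hfg h₃.1
    rw [map_zero] at h
    exact (LinearMap.exact_zero_iff_injective _ (QuotSMulTop.map r f)).1 h

/-- The map on quotients by a sequence. -/
abbrev qmap (rs : List R) (f : M₁ →ₗ[R] M₂) :
    (M₁ ⧸ Ideal.ofList rs • (⊤ : Submodule R M₁)) →ₗ[R] M₂ ⧸ Ideal.ofList rs • (⊤ : Submodule R M₂) :=
  Submodule.mapQ _ _ f (Submodule.smul_top_le_comap_smul_top (Ideal.ofList rs) f)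

theorem length_quot_add (rs : List R) (f : M₁ →ₗ[R] M₂) (g : M₂ →ₗ[R] M₃) (hf : Function.Injective f)
    (hg : Function.Surjective g) (hfg : Function.Exact f g) (h₃ : IsWeaklyRegular M₃ rs) :
    Module.length R (M₂ ⧸ Ideal.ofList rs • (⊤ : Submodule R M₂)) =
      Module.length R (M₁ ⧸ Ideal.ofList rs • (⊤ : Submodule R M₁)) +
      Module.length R (M₃ ⧸ Ideal.ofList rs • (⊤ : Submodule R M₃)) := by
  refine Module.length_eq_add_of_exact (qmap rs f) (qmap rs g) ?_ ?_ ?_
  · refine (injective_iff_map_eq_zero (qmap rs f)).2 fun x hx => ?_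
    obtain ⟨y, rfl⟩ := (map_first_exact_on_four_term_right_exact_of_isSMulRegular_last
      (f₁ := (0 : M₁ →ₗ[R] M₁)) (f₂ := f) (f₃ := g) ((LinearMap.exact_zero_iff_injective _ f).2 hf) hfg hg h₃ x).1 hx
    obtain ⟨y, rfl⟩ := Submodule.Quotient.mk_surjective _ y
    rw [Submodule.mapQ_apply, LinearMap.zero_apply, Submodule.Quotient.mk_zero]
  · intro z
    obtain ⟨z, rfl⟩ := Submodule.Quotient.mk_surjective _ z
    obtain ⟨y, rfl⟩ := hg z
    exact ⟨Submodule.Quotient.mk y, rfl⟩
  · refine map_first_exact_on_four_term_right_exact_of_isSMulRegular_last (f₃ := (0 : M₃ →ₗ[R] PUnit.{u+1}))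
      hfg ((LinearMap.exact_zero_iff_surjective _ g).2 hg) (fun z => ⟨0, Subsingleton.elim _ _⟩) ?_
    exact (isWeaklyRegular_iff_Fin _ _).2 fun _ _ _ _ => Subsingleton.elim _ _

end Exact

section Good

variable {B : Type u} [CommRing B]

/-- The localisation of a module at a prime. -/
abbrev loc (m : Ideal B) [m.IsPrime] (N : Type u) [AddCommGroup N] [Module B N] :=
  LocalizedModule m.primeCompl N

/-- Near the general points of `V(q)` the sequences cutting out a point reduced in `V(q)` are regular and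
their quotient has the same length as the module at `q`. -/
def Good (q : Ideal B) [q.IsPrime] (N : Type u) [AddCommGroup N] [Module B N] : Prop :=
  ∃ g ∉ q, ∀ (m : Ideal B) [m.IsMaximal], g ∉ m → q ≤ m → ∀ rs : List (Localization.AtPrime m),
    IsWeaklyRegular (loc m (B ⧸ q)) rs →
    Module.length (Localization.AtPrime m) (loc m (B ⧸ q) ⧸
      Ideal.ofList rs • (⊤ : Submodule (Localization.AtPrime m) (loc m (B ⧸ q)))) = 1 →
    IsWeaklyRegular (loc m N) rs ∧
      Module.length (Localization.AtPrime m) (loc m N ⧸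
        Ideal.ofList rs • (⊤ : Submodule (Localization.AtPrime m) (loc m N))) =
        Module.length (Localization.AtPrime q) (loc q N)

theorem subsingleton_loc {m : Ideal B} [m.IsPrime] {N : Type u} [AddCommGroup N] [Module B N] {a : B}
    (ha : a ∉ m) (h : ∀ x : N, a • x = 0) : Subsingleton (loc m N) :=
  (LocalizedModule.subsingleton_iff).2 fun x => ⟨a, ha, h x⟩

theorem isWeaklyRegular_of_subsingleton {A : Type u} [CommRing A] {N : Type u} [AddCommGroup N] [Module A N]
    [Subsingleton N] (rs : List A) : IsWeaklyRegular N rs :=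
  (isWeaklyRegular_iff_Fin _ _).2 fun _ _ _ _ => Subsingleton.elim _ _

theorem good_congr {q : Ideal B} [q.IsPrime] {N N' : Type u} [AddCommGroup N] [Module B N] [AddCommGroup N']
    [Module B N'] (e : N ≃ₗ[B] N') (h : Good q N') : Good q N := by
  obtain ⟨g, hg, h⟩ := h
  refine ⟨g, hg, fun m _ hgm hqm rs h₁ h₂ => ?_⟩
  obtain ⟨h3, h4⟩ := h m hgm hqm rs h₁ h₂
  let em : ∀ (p : Ideal B) [p.IsPrime], loc p N ≃ₗ[Localization.AtPrime p] loc p N' := fun p _ =>
    LinearEquiv.ofBijective (LocalizedModule.map p.primeCompl e.toLinearMap)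
      ⟨LocalizedModule.map_injective _ _ e.injective, LocalizedModule.map_surjective _ _ e.surjective⟩
  refine ⟨((em m).isWeaklyRegular_congr rs).2 h3, ?_⟩
  rw [(em q).length_eq, ← h4]
  exact LinearEquiv.length_eq (Submodule.Quotient.equiv _ _ (em m)
    (by rw [Submodule.map_smul'', Submodule.map_top, LinearEquiv.range]))

theorem good_quotient_self (q : Ideal B) [q.IsPrime] : Good q (B ⧸ q) := by
  refine ⟨1, fun h => Ideal.IsPrime.ne_top ‹q.IsPrime› ((Ideal.eq_top_iff_one _).2 h), fun m _ _ _ rs h₁ h₂ => ⟨h₁, ?_⟩⟩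
  rw [h₂]
  haveI : IsSimpleModule (Localization.AtPrime q) (loc q (B ⧸ q)) := by
    let e : loc q (B ⧸ q) ≃ₗ[Localization.AtPrime q] (Localization.AtPrime q ⧸ maximalIdeal (Localization.AtPrime q)) :=
      (IsLocalizedModule.iso q.primeCompl ((q : Submodule B B).toLocalizedQuotient' (Localization.AtPrime q)
        q.primeCompl (Algebra.linearMap B (Localization.AtPrime q)))).extendScalarsOfIsLocalization q.primeCompl _
        ≪≫ₗ Submodule.quotEquivOfEq _ _ (by rw [Ideal.localized'_eq_map, Localization.AtPrime.map_eq_maximalIdeal])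
    haveI : IsSimpleModule (Localization.AtPrime q) (Localization.AtPrime q ⧸ maximalIdeal (Localization.AtPrime q)) :=
      isSimpleModule_iff_isCoatom.2 (IsLocalRing.maximalIdeal.isMaximal _).out
    exact IsSimpleModule.congr e
  exact (Module.length_eq_one _ _).symm

theorem good_all (q : Ideal B) [q.IsPrime] [IsNoetherianRing B] (c : B)
    (hq : q ∈ (Ideal.span {c}).minimalPrimes) (N : Type u) [AddCommGroup N] [Module B N] [Module.Finite B N]
    (hc : ∀ x : N, c • x = 0) : Good q N := by
  revert hc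
  refine IsNoetherianRing.induction_on_isQuotientEquivQuotientPrime B (M := N) inferInstance
    (motive := fun N _ _ _ => (∀ x : N, c • x = 0) → Good q N) ?_ ?_ ?_
  · intro N _ _ _ _ _
    refine ⟨1, fun h => Ideal.IsPrime.ne_top ‹q.IsPrime› ((Ideal.eq_top_iff_one _).2 h), fun m _ _ _ rs _ _ => ?_⟩
    haveI : ∀ (p : Ideal B) [p.IsPrime], Subsingleton (loc p N) := fun p _ =>
      subsingleton_loc (a := (1 : B)) (fun h => Ideal.IsPrime.ne_top ‹p.IsPrime› ((Ideal.eq_top_iff_one _).2 h)) fun x => Subsingleton.elim _ _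
    exact ⟨isWeaklyRegular_of_subsingleton rs, by rw [Module.length_eq_zero, Module.length_eq_zero]⟩
  · intro N _ _ _ p e hc
    refine good_congr e ?_
    by_cases hpq : p.1 = q
    · rw [hpq]; exact good_quotient_self q
    have hcp : c ∈ p.1 := by
      have h := hc (e.symm (Ideal.Quotient.mk _ 1))
      rw [← map_smul, LinearEquiv.map_eq_zero_iff] at h
      have h' : Ideal.Quotient.mk p.1 (c * 1) = 0 := h
      rwa [mul_one, Ideal.Quotient.eq_zero_iff_mem] at h'
    obtain ⟨g, hgp, hgq⟩ : ∃ g ∈ p.1, g ∉ q := by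
      by_contra hcon
      push Not at hcon
      exact hpq (le_antisymm hcon (hq.2 ⟨p.2, (Ideal.span_singleton_le_iff_mem p.1).2 hcp⟩ hcon))
    refine ⟨g, hgq, fun m _ hgm _ rs _ _ => ?_⟩
    have hz : ∀ x : B ⧸ p.1, g • x = 0 := fun x => by
      obtain ⟨x, rfl⟩ := Ideal.Quotient.mk_surjective x
      exact Ideal.Quotient.eq_zero_iff_mem.2 (Ideal.mul_mem_right _ _ hgp)
    haveI := subsingleton_loc (m := m) hgm hz
    haveI := subsingleton_loc (m := q) hgq hz
    exact ⟨isWeaklyRegular_of_subsingleton rs, by rw [Module.length_eq_zero, Module.length_eq_zero]⟩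
  · intro N₁ _ _ _ N₂ _ _ _ N₃ _ _ _ f g hf hg hfg ih₁ ih₃ hc
    obtain ⟨g₁, hg₁, h₁⟩ := ih₁ fun x => hf (by rw [map_smul, hc, map_zero])
    obtain ⟨g₃, hg₃, h₃⟩ := ih₃ fun x => by obtain ⟨y, rfl⟩ := hg x; rw [← map_smul, hc, map_zero]
    refine ⟨g₁ * g₃, fun h => (Ideal.IsPrime.mem_or_mem ‹q.IsPrime› h).elim hg₁ hg₃, fun m _ hgm hqm rs ha hb => ?_⟩
    obtain ⟨r₁, l₁⟩ := h₁ m (fun h => hgm (Ideal.mul_mem_right _ _ h)) hqm rs ha hb
    obtain ⟨r₃, l₃⟩ := h₃ m (fun h => hgm (Ideal.mul_mem_left _ _ h)) hqm rs ha hb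
    let F := LocalizedModule.map m.primeCompl f
    let G := LocalizedModule.map m.primeCompl g
    have hF : Function.Injective F := LocalizedModule.map_injective _ _ hf
    have hG : Function.Surjective G := LocalizedModule.map_surjective _ _ hg
    have hFG : Function.Exact F G := LocalizedModule.map_exact _ f g hfg
    refine ⟨isWeaklyRegular_middle rs F G hF hG hFG r₁ r₃, ?_⟩
    rw [length_quot_add rs F G hF hG hFG r₃, l₁, l₃]
    exact (Module.length_eq_add_of_exact (LocalizedModule.map q.primeCompl f) (LocalizedModule.map q.primeCompl g)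
      (LocalizedModule.map_injective _ _ hf) (LocalizedModule.map_surjective _ _ hg)
      (LocalizedModule.map_exact _ f g hfg)).symm

end Good

section Quot

variable {B : Type u} [CommRing B] (I : Ideal B)

/-- Localisation of a quotient module. -/
def quotLocEquiv (m : Ideal B) [m.IsPrime] :
    loc m (B ⧸ I) ≃ₗ[Localization.AtPrime m]
      (Localization.AtPrime m ⧸ I.map (algebraMap B (Localization.AtPrime m))) :=
  (IsLocalizedModule.iso m.primeCompl ((I : Submodule B B).toLocalizedQuotient' (Localization.AtPrime m)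
    m.primeCompl (Algebra.linearMap B (Localization.AtPrime m)))).extendScalarsOfIsLocalization m.primeCompl _
    ≪≫ₗ Submodule.quotEquivOfEq _ _ (Ideal.localized'_eq_map _ _ I)

theorem localRingHom_quot (m : Ideal B) [m.IsPrime] (m' : Ideal (B ⧸ I)) [m'.IsPrime]
    (h : m = m'.comap (Ideal.Quotient.mk I)) :
    Function.Surjective (Localization.localRingHom m m' (Ideal.Quotient.mk I) h) ∧
      RingHom.ker (Localization.localRingHom m m' (Ideal.Quotient.mk I) h) =
        I.map (algebraMap B (Localization.AtPrime m)) := by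
  refine ⟨fun z => ?_, le_antisymm (fun x hx => ?_) ?_⟩
  · obtain ⟨a, ⟨s, hs⟩, rfl⟩ := IsLocalization.exists_mk'_eq m'.primeCompl z
    obtain ⟨a, rfl⟩ := Ideal.Quotient.mk_surjective a
    obtain ⟨s, rfl⟩ := Ideal.Quotient.mk_surjective s
    have hs' : s ∈ m.primeCompl := fun hc => hs (by rw [h] at hc; exact hc)
    exact ⟨IsLocalization.mk' _ a ⟨s, hs'⟩, Localization.localRingHom_mk' m m' _ h a ⟨s, hs'⟩⟩
  · obtain ⟨a, s, rfl⟩ := IsLocalization.exists_mk'_eq m.primeCompl x
    rw [RingHom.mem_ker, Localization.localRingHom_mk', IsLocalization.mk'_eq_zero_iff] at hx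
    obtain ⟨⟨u, hu⟩, hu0⟩ := hx
    obtain ⟨u, rfl⟩ := Ideal.Quotient.mk_surjective u
    have hua : u * a ∈ I := by
      rw [← Ideal.Quotient.eq_zero_iff_mem, map_mul]; exact hu0
    have hu' : u ∈ m.primeCompl := fun hc => hu (by rw [h] at hc; exact hc)
    rw [IsLocalization.mk'_mem_map_algebraMap_iff]
    exact ⟨u, hu', hua⟩
  · refine Ideal.map_le_iff_le_comap.2 fun a ha => ?_
    show Localization.localRingHom m m' (Ideal.Quotient.mk I) h (algebraMap B _ a) = 0
    rw [Localization.localRingHom_to_map, Ideal.Quotient.eq_zero_iff_mem.2 ha, map_zero]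

/-- The quotient of a local ring of a ring is a local ring of the quotient. -/
def quotLocRingEquiv (m : Ideal B) [m.IsPrime] (m' : Ideal (B ⧸ I)) [m'.IsPrime]
    (h : m = m'.comap (Ideal.Quotient.mk I)) :
    (Localization.AtPrime m ⧸ I.map (algebraMap B (Localization.AtPrime m))) ≃+* Localization.AtPrime m' :=
  (Ideal.quotEquivOfEq (localRingHom_quot I m m' h).2.symm).trans
    (RingHom.quotientKerEquivOfSurjective (localRingHom_quot I m m' h).1)

theorem isWeaklyRegular_quot_iff {A : Type u} [CommRing A] (J : Ideal A) (rs : List A) :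
    IsWeaklyRegular (A ⧸ J) (rs.map (Ideal.Quotient.mk J)) ↔ IsWeaklyRegular (A ⧸ J) rs :=
  isWeaklyRegular_map_algebraMap_iff (S := A ⧸ J) (A ⧸ J) rs

end Quot

section Point

/-- A closed point of a component, away from a closed set, at which the component is regular, together with
lifts of a regular system of parameters. -/
theorem exists_point {B : Type u} [CommRing B] (q : Ideal B) [q.IsPrime] (k : Type u) [Field k] [IsAlgClosed k]
    [Algebra k (B ⧸ q)] [Algebra.FiniteType k (B ⧸ q)] {g : B} (hg : g ∉ q) :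
    ∃ (m : Ideal B) (_ : m.IsMaximal), g ∉ m ∧ q ≤ m ∧
      (∀ b : B, ∃ a : k, ∀ b' : B, Ideal.Quotient.mk q b' = algebraMap k (B ⧸ q) a → b - b' ∈ m) ∧
      ∃ ts : List B, (∀ t ∈ ts, t ∈ m) ∧
        IsWeaklyRegular (loc m (B ⧸ q)) (ts.map (algebraMap B (Localization.AtPrime m))) ∧
        Module.length (Localization.AtPrime m) (loc m (B ⧸ q) ⧸
          Ideal.ofList (ts.map (algebraMap B (Localization.AtPrime m))) •
            (⊤ : Submodule (Localization.AtPrime m) (loc m (B ⧸ q)))) = 1 := by
  let D := B ⧸ q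
  let gd : D := Ideal.Quotient.mk q g
  have hgd : gd ≠ 0 := fun h => hg (Ideal.Quotient.eq_zero_iff_mem.1 h)
  haveI : Algebra.FiniteType D (Localization.Away gd) := IsLocalization.finiteType_of_monoid_fg (Submonoid.powers gd) _
  haveI : Algebra.FiniteType k (Localization.Away gd) := Algebra.FiniteType.trans (S := D) inferInstance inferInstance
  have hle : Submonoid.powers gd ≤ nonZeroDivisors D :=
    Submonoid.powers_le.2 (mem_nonZeroDivisors_of_ne_zero hgd)
  haveI : IsDomain (Localization.Away gd) := IsLocalization.isDomain_localization hle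
  obtain ⟨M', hM', hregM⟩ := Groth.L08.HopfDim.exists_regular_maximal (k := k) (Localization.Away gd)
  haveI : IsJacobsonRing D := isJacobsonRing_of_finiteType (A := k)
  obtain ⟨hm0, hgm0⟩ := (IsLocalization.isMaximal_iff_isMaximal_disjoint (Localization.Away gd) gd M').1 hM'
  let m' : Ideal D := M'.under D
  haveI : m'.IsMaximal := hm0
  let m : Ideal B := m'.comap (Ideal.Quotient.mk q)
  haveI hm : m.IsMaximal := Ideal.comap_isMaximal_of_surjective _ Ideal.Quotient.mk_surjective
  have hqm : q ≤ m := fun b hb => by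
    show Ideal.Quotient.mk q b ∈ m'
    rw [Ideal.Quotient.eq_zero_iff_mem.2 hb]; exact zero_mem _
  haveI : IsRegularLocalRing (Localization.AtPrime m') :=
    IsRegularLocalRing.of_ringEquiv (R := Localization.AtPrime M')
      (show Localization.AtPrime M' ≃+* Localization.AtPrime m' from
        (IsLocalization.localizationLocalizationAtPrimeIsoLocalization (Submonoid.powers gd) M').symm.toRingEquiv)
  let A := Localization.AtPrime m
  let J : Ideal A := q.map (algebraMap B A)
  let e : (A ⧸ J) ≃+* Localization.AtPrime m' := quotLocRingEquiv q m m' rfl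
  haveI : IsRegularLocalRing (A ⧸ J) := IsRegularLocalRing.of_ringEquiv e.symm
  refine ⟨m, hm, hgm0, hqm, fun b => ?_, ?_⟩
  · haveI : IsJacobsonRing D := isJacobsonRing_of_finiteType (A := k)
    letI : Field (D ⧸ m') := Ideal.Quotient.field m'
    haveI : Algebra.FiniteType k (D ⧸ m') :=
      Algebra.FiniteType.of_surjective (Ideal.Quotient.mkₐ k m') Ideal.Quotient.mk_surjective
    haveI : Module.Finite k (D ⧸ m') := finite_of_finite_type_of_isJacobsonRing k (D ⧸ m')
    obtain ⟨a, ha⟩ := IsAlgClosed.algebraMap_bijective_of_isIntegral (k := k) (K := D ⧸ m') |>.2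
      (Ideal.Quotient.mk m' (Ideal.Quotient.mk q b))
    refine ⟨a, fun b' hb' => ?_⟩
    show Ideal.Quotient.mk q (b - b') ∈ m'
    rw [← Ideal.Quotient.eq_zero_iff_mem, map_sub, map_sub, hb', ← ha, sub_eq_zero]
    rfl
  · classical
    have hmax : maximalIdeal (A ⧸ J) = (maximalIdeal A).map (Ideal.Quotient.mk J) :=
      (IsLocalRing.map_maximalIdeal_of_surjective _ Ideal.Quotient.mk_surjective).symm
    have hfin : ((maximalIdeal (A ⧸ J)).generators).Finite :=
      Submodule.FG.finite_generators (Ideal.fg_of_isNoetherianRing _)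
    have hex : ∀ x : A ⧸ J, ∃ a : B, ∃ u : A ⧸ J, IsUnit u ∧ x * u = Ideal.Quotient.mk J (algebraMap B A a) := by
      intro x
      obtain ⟨x, rfl⟩ := Ideal.Quotient.mk_surjective x
      obtain ⟨a, s, rfl⟩ := IsLocalization.exists_mk'_eq m.primeCompl x
      exact ⟨a, Ideal.Quotient.mk J (algebraMap B A s), (IsLocalization.map_units A s).map _,
        by rw [← map_mul, IsLocalization.mk'_spec]⟩
    choose a u hu hau using hex
    let ts : List B := hfin.toFinset.toList.map a
    have hts : Ideal.ofList ((ts.map (algebraMap B A)).map (Ideal.Quotient.mk J)) = maximalIdeal (A ⧸ J) := by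
      refine le_antisymm (Ideal.span_le.2 ?_) ?_
      · intro x hx
        simp only [ts, List.map_map, List.mem_map, Set.mem_ofPred_eq, Function.comp_apply, Finset.mem_toList,
          Set.Finite.mem_toFinset] at hx
        obtain ⟨y, hy, rfl⟩ := hx
        rw [← hau y]
        exact Ideal.mul_mem_right _ _ (Submodule.span_generators (maximalIdeal (A ⧸ J)) ▸ Submodule.subset_span hy)
      · conv_lhs => rw [← Submodule.span_generators (maximalIdeal (A ⧸ J))]
        refine Submodule.span_le.2 fun y hy => ?_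
        refine (Ideal.mul_unit_mem_iff_mem _ (hu y)).1 ?_
        rw [hau y]
        refine Ideal.subset_span ?_
        simp only [ts, List.map_map, List.mem_map, Set.mem_ofPred_eq, Function.comp_apply, Finset.mem_toList,
          Set.Finite.mem_toFinset]
        exact ⟨y, hy, rfl⟩
    have hlen : ringKrullDim (A ⧸ J) = (((ts.map (algebraMap B A)).map (Ideal.Quotient.mk J)).length : ℕ) := by
      simp only [ts, List.length_map, Finset.length_toList]
      rw [← Set.ncard_eq_toFinset_card _ hfin, Submodule.FG.generators_ncard (Ideal.fg_of_isNoetherianRing _)]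
      exact IsRegularLocalRing.spanFinrank_maximalIdeal.symm
    have hreg := (Groth.L01.isRegular_of_ofList_eq_maximalIdeal _ hts hlen).toIsWeaklyRegular
    refine ⟨ts, fun t ht => ?_, ((quotLocEquiv q m).isWeaklyRegular_congr _).2 ((isWeaklyRegular_quot_iff J _).1 hreg), ?_⟩
    · have h1 : Ideal.Quotient.mk J (algebraMap B A t) ∈ maximalIdeal (A ⧸ J) := by
        rw [← hts]
        exact Ideal.subset_span (List.mem_map.2 ⟨_, List.mem_map.2 ⟨t, ht, rfl⟩, rfl⟩)
      by_contra htm
      exact h1 ((IsLocalization.map_units A (⟨t, htm⟩ : m.primeCompl)).map _)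
    · let L := Ideal.ofList (ts.map (algebraMap B A))
      rw [(Submodule.Quotient.equiv (L • ⊤) (L • ⊤) (quotLocEquiv q m)
        (by rw [Submodule.map_smul'', Submodule.map_top, LinearEquiv.range])).length_eq]
      have hL : L • (⊤ : Submodule A (A ⧸ J)) = Submodule.restrictScalars A (maximalIdeal (A ⧸ J)) := by
        rw [Ideal.smul_top_eq_map, ← hts, ← Ideal.map_ofList]
        rfl
      rw [(Submodule.quotEquivOfEq _ _ hL).length_eq,
        (Submodule.Quotient.restrictScalarsEquiv A (maximalIdeal (A ⧸ J))).length_eq,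
        Module.length_eq_of_surjective (R := A ⧸ J) Ideal.Quotient.mk_surjective]
      haveI : IsSimpleModule (A ⧸ J) ((A ⧸ J) ⧸ maximalIdeal (A ⧸ J)) :=
        isSimpleModule_iff_isCoatom.2 (IsLocalRing.maximalIdeal.isMaximal _).out
      exact Module.length_eq_one _ _

end Point

section Main

variable {R : Type u} [CommRing R] [IsDomain R] [IsDiscreteValuationRing R] [HenselianLocalRing R]
  {B : Type u} [CommRing B] [Algebra R B] [Algebra.FiniteType R B] [Module.Flat R B]

/-- Through a general point of a component of the closed fibre passes a finite flat scheme of degree equal to the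
multiplicity of the component. -/
theorem exists_finite_slice (hk : IsAlgClosed (ResidueField R)) {ϖ : R} (hϖ : Irreducible ϖ) (q : Ideal B)
    [q.IsPrime] (hq : q ∈ (Ideal.span {algebraMap R B ϖ}).minimalPrimes) :
    ∃ (ℓ : ℕ) (C : Type u) (_ : CommRing C) (_ : Algebra R C) (_ : Module.Finite R C) (_ : Module.Free R C)
      (_ : B →ₐ[R] C), Module.finrank R C = ℓ ∧
      Module.length (Localization.AtPrime q) (loc q (B ⧸ Ideal.span {algebraMap R B ϖ})) = ℓ := by
  haveI := hk
  haveI : IsNoetherianRing B := Algebra.FiniteType.isNoetherianRing R B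
  let c := algebraMap R B ϖ
  let I : Ideal B := Ideal.span {c}
  have hmR : maximalIdeal R = Ideal.span {ϖ} := hϖ.maximalIdeal_eq
  have hcq : c ∈ q := (Ideal.span_singleton_le_iff_mem q).1 hq.1.2
  have hRq : ∀ r ∈ maximalIdeal R, algebraMap R B r ∈ q := fun r hr => by
    rw [hmR, Ideal.mem_span_singleton'] at hr
    obtain ⟨a, rfl⟩ := hr
    rw [map_mul]; exact Ideal.mul_mem_left _ _ hcq
  obtain ⟨g, hg, hgood⟩ := good_all q c hq (B ⧸ I) fun x => by
    obtain ⟨x, rfl⟩ := Ideal.Quotient.mk_surjective x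
    exact Ideal.Quotient.eq_zero_iff_mem.2 (Ideal.mul_mem_right _ _ (Ideal.mem_span_singleton_self c))
  -- the closed point
  letI : Algebra (ResidueField R) (B ⧸ q) := (Ideal.Quotient.lift (maximalIdeal R)
    ((Ideal.Quotient.mk q).comp (algebraMap R B)) fun r hr => Ideal.Quotient.eq_zero_iff_mem.2 (hRq r hr)).toAlgebra
  haveI : IsScalarTower R (ResidueField R) (B ⧸ q) := IsScalarTower.of_algebraMap_eq fun r => rfl
  haveI : Algebra.FiniteType (ResidueField R) (B ⧸ q) :=
    haveI : Algebra.FiniteType R (B ⧸ q) :=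
      Algebra.FiniteType.of_surjective (Ideal.Quotient.mkₐ R q) Ideal.Quotient.mk_surjective
    Algebra.FiniteType.of_restrictScalars_finiteType R _ _
  obtain ⟨m, hm, hgm, hqm, hres, ts, htsm, hreg, hlen⟩ := exists_point q (ResidueField R) hg
  obtain ⟨hregN, hlenN⟩ := hgood m hgm hqm _ hreg hlen
  let A := Localization.AtPrime m
  haveI : IsNoetherianRing A := IsLocalization.isNoetherianRing m.primeCompl A ‹_›
  let rs := ts.map (algebraMap B A)
  let cA := algebraMap B A c
  let J := Ideal.ofList rs
  -- the multiplicity is finite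
  have hfinq : Module.length (Localization.AtPrime q) (loc q (B ⧸ I)) ≠ ⊤ := by
    let Aq := Localization.AtPrime q
    rw [(quotLocEquiv I q).length_eq, Module.length_eq_of_surjective (R := Aq ⧸ I.map (algebraMap B Aq))
      Ideal.Quotient.mk_surjective, Module.length_ne_top_iff, isFiniteLength_iff_isNoetherian_isArtinian]
    haveI : IsNoetherianRing Aq := IsLocalization.isNoetherianRing q.primeCompl Aq ‹_›
    haveI : Ring.KrullDimLE 0 (Aq ⧸ I.map (algebraMap B Aq)) := Ring.krullDimLE_zero_iff.2 fun P hP => by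
      have hsurj := Ideal.Quotient.mk_surjective (I := I.map (algebraMap B Aq))
      let P' := P.comap (Ideal.Quotient.mk (I.map (algebraMap B Aq)))
      haveI : P'.IsPrime := Ideal.IsPrime.comap _
      have h1 : P'.comap (algebraMap B Aq) ≤ q := by
        intro b hb
        by_contra hbq
        exact (Ideal.IsPrime.ne_top ‹P'.IsPrime›)
          (Ideal.eq_top_of_isUnit_mem _ hb (IsLocalization.map_units Aq (⟨b, hbq⟩ : q.primeCompl)))
      have h2 : I ≤ P'.comap (algebraMap B Aq) := fun b hb => by
        show Ideal.Quotient.mk (I.map (algebraMap B Aq)) (algebraMap B Aq b) ∈ P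
        rw [Ideal.Quotient.eq_zero_iff_mem.2 (Ideal.mem_map_of_mem _ hb)]; exact zero_mem _
      have h3 : P'.comap (algebraMap B Aq) = q :=
        le_antisymm h1 (hq.2 ⟨Ideal.IsPrime.comap _, h2⟩ h1)
      have h4 : P' = maximalIdeal Aq := (IsLocalization.map_comap q.primeCompl Aq P').symm.trans
        ((congrArg (Ideal.map (algebraMap B Aq)) h3).trans Localization.AtPrime.map_eq_maximalIdeal)
      haveI : P'.IsMaximal := h4 ▸ maximalIdeal.isMaximal _
      rw [← Ideal.map_comap_of_surjective _ hsurj P]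
      exact Ideal.IsMaximal.map_of_surjective_of_ker_le hsurj (by
        rw [Ideal.mk_ker]; exact Ideal.mk_ker.ge.trans (Ideal.comap_mono bot_le))
    exact ⟨inferInstance, IsNoetherianRing.isArtinianRing_of_krullDimLE_zero⟩
  obtain ⟨ℓ, hℓ⟩ := ENat.ne_top_iff_exists.1 hfinq
  -- regularity
  have hcreg : IsSMulRegular A cA := by
    haveI : Module.Flat B A := IsLocalization.flat A m.primeCompl
    haveI : Module.Flat R A := Module.Flat.trans R B A
    have h := IsSMulRegular.of_flat (S := A) (x := ϖ) (fun a b hab => mul_left_cancel₀ hϖ.ne_zero hab)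
    intro a b hab
    refine h ?_
    show algebraMap R A ϖ • a = algebraMap R A ϖ • b
    rw [IsScalarTower.algebraMap_apply R B A]
    exact hab
  have hI : I.map (algebraMap B A) = Ideal.span {cA} := by rw [Ideal.map_span, Set.image_singleton]
  let eN : loc m (B ⧸ I) ≃ₗ[A] A ⧸ Ideal.span {cA} := quotLocEquiv I m ≪≫ₗ Submodule.quotEquivOfEq _ _ hI
  have hsmul : cA • (⊤ : Submodule A A) = Ideal.span {cA} := by
    rw [← Submodule.ideal_span_singleton_smul, smul_eq_mul, Ideal.mul_top]
  have hw : IsWeaklyRegular A (cA :: rs) := (isWeaklyRegular_cons_iff A cA rs).2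
    ⟨hcreg, ((Submodule.quotEquivOfEq _ _ hsmul).isWeaklyRegular_congr rs).2 ((eN.isWeaklyRegular_congr rs).1 hregN)⟩
  have hcm : cA ∈ maximalIdeal A := by
    rw [← Localization.AtPrime.map_eq_maximalIdeal]
    exact Ideal.mem_map_of_mem _ (hqm hcq)
  have hrsm : ∀ r ∈ rs, r ∈ maximalIdeal A := fun r hr => by
    obtain ⟨t, ht, rfl⟩ := List.mem_map.1 hr
    rw [← Localization.AtPrime.map_eq_maximalIdeal]
    exact Ideal.mem_map_of_mem _ (htsm t ht)
  have hw' : IsWeaklyRegular A (rs ++ [cA]) :=
    IsLocalRing.isWeaklyRegular_of_perm_of_subset_maximalIdeal hw (List.perm_append_singleton cA rs).symm (by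
      intro r hr
      rcases List.mem_cons.1 hr with rfl | hr
      · exact hcm
      · exact hrsm r hr)
  have hcJ : IsSMulRegular (A ⧸ J) cA := by
    have h := ((isWeaklyRegular_append_iff A rs [cA]).1 hw').2
    rw [isWeaklyRegular_singleton_iff] at h
    have hJ : J • (⊤ : Submodule A A) = J := by rw [smul_eq_mul, Ideal.mul_top]
    exact ((Submodule.quotEquivOfEq _ _ hJ).isSMulRegular_congr cA).1 h
  -- the finite algebra
  let Jb : Ideal B := Ideal.ofList ts
  have hJm : Jb ≤ m := Ideal.span_le.2 fun t ht => htsm t ht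
  have hJmap : Jb.map (algebraMap B A) = J := Ideal.map_ofList _ _
  let n' : Ideal (B ⧸ Jb) := m.map (Ideal.Quotient.mk Jb)
  haveI hn' : n'.IsMaximal := Ideal.IsMaximal.map_of_surjective_of_ker_le Ideal.Quotient.mk_surjective
    (by rw [Ideal.mk_ker]; exact hJm)
  have hmn : m = n'.comap (Ideal.Quotient.mk Jb) := by
    rw [Ideal.comap_map_of_surjective _ Ideal.Quotient.mk_surjective, ← RingHom.ker_eq_comap_bot, Ideal.mk_ker,
      sup_eq_left.2 hJm]
  haveI : n'.LiesOver (maximalIdeal R) := ⟨by
    refine (maximalIdeal.isMaximal R).eq_of_le (Ideal.IsPrime.ne_top (Ideal.IsPrime.under R n')) fun r hr => ?_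
    show algebraMap R (B ⧸ Jb) r ∈ n'
    rw [IsScalarTower.algebraMap_apply R B (B ⧸ Jb)]
    exact Ideal.mem_map_of_mem _ (hqm (hRq r hr))⟩
  let eA : (A ⧸ J) ≃+* Localization.AtPrime n' := (Ideal.quotEquivOfEq hJmap.symm).trans (quotLocRingEquiv Jb m n' hmn)
  -- the quotient by the uniformiser has length `ℓ`
  have hlenJ : Module.length A (A ⧸ (Ideal.span {cA} ⊔ J)) = ℓ := by
    rw [hℓ, ← hlenN]
    let e₁ : (loc m (B ⧸ I) ⧸ J • (⊤ : Submodule A (loc m (B ⧸ I)))) ≃ₗ[A]
        (A ⧸ Ideal.span {cA}) ⧸ J • (⊤ : Submodule A (A ⧸ Ideal.span {cA})) :=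
      Submodule.Quotient.equiv _ _ eN (by rw [Submodule.map_smul'', Submodule.map_top, LinearEquiv.range])
    rw [e₁.length_eq]
    refine LinearEquiv.length_eq ?_
    refine (Submodule.quotientQuotientEquivQuotientSup (Ideal.span {cA}) J).symm ≪≫ₗ Submodule.quotEquivOfEq _ _ ?_
    conv_rhs => rw [← Submodule.range_mkQ (Ideal.span {cA}), ← Submodule.map_top, ← Submodule.map_smul'', smul_eq_mul, Ideal.mul_top]
  haveI hart : IsArtinianRing (A ⧸ (Ideal.span {cA} ⊔ J)) := by
    have h : Module.length A (A ⧸ (Ideal.span {cA} ⊔ J)) ≠ ⊤ := by rw [hlenJ]; exact ENat.natCast_ne_top ℓ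
    rw [Module.length_eq_of_surjective (R := A ⧸ (Ideal.span {cA} ⊔ J)) Ideal.Quotient.mk_surjective,
      Module.length_ne_top_iff, isFiniteLength_iff_isNoetherian_isArtinian] at h
    exact h.2
  haveI : Algebra.QuasiFiniteAt R n' := by
    let Cb := B ⧸ Jb
    let mI := (maximalIdeal R).map (algebraMap R Cb)
    let π := Ideal.Quotient.mk mI
    have hmI : mI ≤ n' := Ideal.map_le_iff_le_comap.2 fun r hr => by
      show algebraMap R Cb r ∈ n'
      rw [IsScalarTower.algebraMap_apply R B Cb]
      exact Ideal.mem_map_of_mem _ (hqm (hRq r hr))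
    haveI : (n'.map π).IsMaximal := Ideal.IsMaximal.map_of_surjective_of_ker_le Ideal.Quotient.mk_surjective
      (by rw [Ideal.mk_ker]; exact hmI)
    let x : PrimeSpectrum (Cb ⧸ mI) := ⟨n'.map π, inferInstance⟩
    have hx : (x.asIdeal.comap π) = n' := by
      show (n'.map π).comap π = n'
      rw [Ideal.comap_map_of_surjective _ Ideal.Quotient.mk_surjective, ← RingHom.ker_eq_comap_bot, Ideal.mk_ker,
        sup_eq_left.2 hmI]
    have hmin : ∀ y : PrimeSpectrum (Cb ⧸ mI), y.asIdeal ≤ x.asIdeal → y = x := by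
      intro y hy
      let P : Ideal B := (y.asIdeal.comap π).comap (Ideal.Quotient.mk Jb)
      have hPm : P ≤ m := by rw [hmn]; exact Ideal.comap_mono ((Ideal.comap_mono hy).trans hx.le)
      have hPI : c ∈ P := by
        show π (Ideal.Quotient.mk Jb (algebraMap R B ϖ)) ∈ y.asIdeal
        rw [Ideal.Quotient.eq_zero_iff_mem.2 (show Ideal.Quotient.mk Jb (algebraMap R B ϖ) ∈ mI from
          Ideal.mem_map_of_mem (algebraMap R Cb) (hmR ▸ Ideal.mem_span_singleton_self ϖ))]
        exact zero_mem _
      have hPJ : Jb ≤ P := fun b hb => by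
        show π (Ideal.Quotient.mk Jb b) ∈ y.asIdeal
        rw [Ideal.Quotient.eq_zero_iff_mem.2 hb, map_zero]; exact zero_mem _
      have hdisj : Disjoint (m.primeCompl : Set B) (P : Set B) := Set.disjoint_left.2 fun b hb hbP => hb (hPm hbP)
      let PA := P.map (algebraMap B A)
      haveI : P.IsPrime := Ideal.IsPrime.comap _
      haveI : PA.IsPrime := IsLocalization.isPrime_of_isPrime_disjoint m.primeCompl A P inferInstance hdisj
      have hle : Ideal.span {cA} ⊔ J ≤ PA := sup_le
        ((Ideal.span_singleton_le_iff_mem _).2 (Ideal.mem_map_of_mem _ hPI))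
        (hJmap ▸ Ideal.map_mono hPJ)
      have hPAmax : PA = maximalIdeal A := by
        let π' := Ideal.Quotient.mk (Ideal.span {cA} ⊔ J)
        haveI : (PA.map π').IsPrime := Ideal.map_isPrime_of_surjective Ideal.Quotient.mk_surjective
          (by rw [Ideal.mk_ker]; exact hle)
        haveI : (PA.map π').IsMaximal := IsArtinianRing.isMaximal_of_isPrime _
        have hback : (PA.map π').comap π' = PA := by
          rw [Ideal.comap_map_of_surjective _ Ideal.Quotient.mk_surjective, ← RingHom.ker_eq_comap_bot,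
            Ideal.mk_ker, sup_eq_left.2 hle]
        exact IsLocalRing.eq_maximalIdeal (hback ▸ Ideal.comap_isMaximal_of_surjective π' Ideal.Quotient.mk_surjective)
      have hPm' : P = m := by
        rw [← IsLocalization.comap_map_of_isPrime_disjoint m.primeCompl A inferInstance hdisj]
        show PA.comap (algebraMap B A) = m
        rw [hPAmax]
        exact IsLocalization.AtPrime.under_maximalIdeal A m
      refine PrimeSpectrum.ext (Ideal.comap_injective_of_surjective π Ideal.Quotient.mk_surjective ?_)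
      rw [hx]
      exact Ideal.comap_injective_of_surjective _ Ideal.Quotient.mk_surjective (hPm'.trans hmn)
    have hopen : IsOpen ({x} : Set (PrimeSpectrum (Cb ⧸ mI))) := by
      haveI : IsNoetherianRing (Cb ⧸ mI) := inferInstance
      have hfin := minimalPrimes.finite_of_isNoetherianRing (Cb ⧸ mI)
      have hcl : IsClosed (⋃ P ∈ minimalPrimes (Cb ⧸ mI) \ {x.asIdeal},
          PrimeSpectrum.zeroLocus (P : Set (Cb ⧸ mI))) :=
        (hfin.sdiff).isClosed_biUnion fun P _ => PrimeSpectrum.isClosed_zeroLocus _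
      convert hcl.isOpen_compl using 1
      ext y
      simp only [Set.mem_singleton_iff, Set.mem_compl_iff, Set.mem_iUnion, PrimeSpectrum.mem_zeroLocus, not_exists]
      constructor
      · rintro rfl P ⟨hP, hPx⟩ hle
        exact hPx (congrArg PrimeSpectrum.asIdeal (hmin ⟨P, hP.1.1⟩ (SetLike.coe_subset_coe.1 hle)))
      · intro hy
        obtain ⟨P, hP, hPy⟩ := Ideal.exists_minimalPrimes_le (bot_le : (⊥ : Ideal (Cb ⧸ mI)) ≤ y.asIdeal)
        have hPx : P = x.asIdeal := by
          by_contra hne
          exact hy P ⟨hP, hne⟩ (SetLike.coe_subset_coe.2 hPy)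
        exact PrimeSpectrum.ext (((Ideal.IsMaximal.eq_of_le ‹(n'.map π).IsMaximal› y.2.ne_top (hPx.symm.le.trans hPy))).symm)
    have hqf := Groth.L05.quasiFiniteAt_of_isOpen_singleton_closedFibre (A := R) (S := Cb) x hopen
    exact (congrArg (fun P : Ideal Cb => ∃ _ : P.IsPrime, Algebra.QuasiFiniteAt R P) hx).mp
      ⟨inferInstance, hqf⟩ |>.2
  obtain ⟨hfin, -⟩ := Groth.L05.HensTensor.finite_localization_atPrime R (B ⧸ Jb) n'
  haveI := hfin
  let eR : (A ⧸ J) ≃ₐ[R] Localization.AtPrime n' := AlgEquiv.ofRingEquiv (f := eA) fun r => by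
    show eA (Ideal.Quotient.mk J (algebraMap R A r)) = _
    rw [IsScalarTower.algebraMap_apply R B A, IsScalarTower.algebraMap_apply R (B ⧸ Jb) (Localization.AtPrime n'),
      IsScalarTower.algebraMap_apply R B (B ⧸ Jb)]
    exact Localization.localRingHom_to_map m n' (Ideal.Quotient.mk Jb) hmn (algebraMap R B r)
  haveI : Module.Finite R (A ⧸ J) := Module.Finite.equiv eR.symm.toLinearEquiv
  have hcA : algebraMap R A ϖ = cA := IsScalarTower.algebraMap_apply R B A ϖ
  haveI : Module.IsTorsionFree R (A ⧸ J) := .of_smul_eq_zero fun r x hrx => by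
    by_cases hr : r = 0
    · exact Or.inl hr
    refine Or.inr ?_
    obtain ⟨n, u, rfl⟩ := IsDiscreteValuationRing.eq_unit_mul_pow_irreducible hr hϖ
    rw [mul_smul] at hrx
    have h0 : ϖ ^ n • x = 0 := ((Units.isUnit u).smul_eq_zero).1 hrx
    clear hrx hr
    induction n with
    | zero => simpa using h0
    | succ n ih =>
      rw [pow_succ', mul_smul] at h0
      refine ih (hcJ ?_)
      show cA • (ϖ ^ n • x) = cA • 0
      rw [smul_zero, ← hcA, algebraMap_smul, h0]
  haveI : Module.Free R (A ⧸ J) := Module.free_of_finite_type_torsion_free'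
  refine ⟨ℓ, A ⧸ J, inferInstance, inferInstance, inferInstance, inferInstance,
    ((Ideal.Quotient.mkₐ R J).comp (IsScalarTower.toAlgHom R B A)), ?_, hℓ.symm⟩
  -- the rank
  have h1 : Module.length R (A ⧸ (Ideal.span {cA} ⊔ J)) = Module.finrank R (A ⧸ J) := by
    let e : ((R ⧸ maximalIdeal R) ⊗[R] (A ⧸ J)) ≃ₗ[R] A ⧸ (Ideal.span {cA} ⊔ J) :=
      TensorProduct.quotTensorEquivQuotSMul (A ⧸ J) (maximalIdeal R) ≪≫ₗ
        Submodule.quotEquivOfEq _ ((Submodule.map J.mkQ (Ideal.span {cA})).restrictScalars R) (by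
          rw [Ideal.smul_top_eq_map, hmR, Ideal.map_span, Set.image_singleton]
          refine Submodule.restrictScalars_inj R (A ⧸ J) (A ⧸ J) |>.2 rfl |>.trans ?_
          ext y
          simp only [Submodule.restrictScalars_mem, Ideal.mem_span_singleton', Submodule.mem_map,
            Submodule.mkQ_apply]
          constructor
          · rintro ⟨z, rfl⟩
            obtain ⟨z, rfl⟩ := Ideal.Quotient.mk_surjective z
            exact ⟨z * cA, ⟨z, rfl⟩, by rw [← hcA]; rfl⟩
          · rintro ⟨_, ⟨z, rfl⟩, rfl⟩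
            exact ⟨Ideal.Quotient.mk J z, by rw [← hcA]; rfl⟩) ≪≫ₗ
        Submodule.Quotient.restrictScalarsEquiv R _ ≪≫ₗ
        ((Submodule.quotientQuotientEquivQuotientSup J (Ideal.span {cA})) ≪≫ₗ
          Submodule.quotEquivOfEq _ _ (sup_comm _ _)).restrictScalars R
    rw [← e.length_eq, Module.length_eq_of_surjective (S := R) (R := R ⧸ maximalIdeal R) Ideal.Quotient.mk_surjective]
    letI : Field (R ⧸ maximalIdeal R) := Ideal.Quotient.field _
    rw [Module.length_eq_finrank, Module.finrank_baseChange]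
  haveI : IsLocalHom (algebraMap R A) := ⟨fun r hr => by
    by_contra hu
    have h := hqm (hRq r hu)
    rw [IsScalarTower.algebraMap_apply R B A, IsLocalization.AtPrime.isUnit_to_map_iff A m] at hr
    exact hr h⟩
  have h2 : Module.length (ResidueField R) (ResidueField A) = 1 := by
    have hsurj : Function.Surjective (algebraMap (ResidueField R) (ResidueField A)) := by
      intro z
      obtain ⟨z, rfl⟩ := IsLocalRing.residue_surjective z
      obtain ⟨b, s, rfl⟩ := IsLocalization.exists_mk'_eq m.primeCompl z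
      have hlift : ∀ b : B, ∃ r : R, residue A (algebraMap B A b) = residue A (algebraMap R A r) := by
        intro b
        obtain ⟨a, ha⟩ := hres b
        obtain ⟨r, rfl⟩ := Ideal.Quotient.mk_surjective a
        refine ⟨r, ?_⟩
        rw [← sub_eq_zero, ← map_sub, IsLocalRing.residue_eq_zero_iff, IsScalarTower.algebraMap_apply R B A,
          ← map_sub, ← Localization.AtPrime.map_eq_maximalIdeal]
        exact Ideal.mem_map_of_mem _ (ha _ rfl)
      obtain ⟨r, hr⟩ := hlift b
      obtain ⟨r', hr'⟩ := hlift s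
      have hu : IsUnit r' := by
        refine isUnit_of_map_unit (algebraMap R A) r' ?_
        rw [← IsLocalRing.residue_ne_zero_iff_isUnit, ← hr', IsLocalRing.residue_ne_zero_iff_isUnit]
        exact IsLocalization.map_units A s
      obtain ⟨u, rfl⟩ := hu
      refine ⟨residue R (r * ↑u⁻¹), ?_⟩
      rw [IsLocalRing.ResidueField.algebraMap_residue, map_mul, map_mul, ← hr]
      have hs : residue A (algebraMap B A s) ≠ 0 :=
        (IsLocalRing.residue_ne_zero_iff_isUnit _).2 (IsLocalization.map_units A s)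
      apply mul_right_cancel₀ hs
      conv_lhs => rw [hr', mul_assoc, ← map_mul, ← map_mul (algebraMap R A), Units.inv_mul, map_one, map_one, mul_one]
      rw [← map_mul, IsLocalization.mk'_spec]
    rw [Module.length_eq_of_surjective (R := ResidueField A) hsurj]
    exact Module.length_eq_one _ _
  have h3 : Module.length R (A ⧸ (Ideal.span {cA} ⊔ J)) = ℓ := by
    rw [IsLocalRing.length_restrictScalars R A, hlenJ, h2, mul_one]
  exact_mod_cast h1.symm.trans h3

end Main

end Groth.L05.Models.Slice
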