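import Groth.Agent.L13.CurveContr.HenselDivisor
import Groth.Agent.L05.InterPair.Main
import Groth.Agent.L05.ProjLines.Main
import Groth.Agent.L05.FibreDecomp.Main
import Groth.Agent.L21.PointIdeal
import Groth.Agent.L22.CurveDeg.NonSpecial
import Groth.Agent.L22.Ideal
import Groth.Agent.L18.CurveBasic
import Groth.Prelude.Def_ModelsG

/-!
# Divisors meeting one component of the closed fibre once

Over a henselian discrete valuation ring with algebraically closed residue field, through a general point of a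
component of the closed fibre of a fibred surface passes a horizontal divisor meeting that component
transversally and no other component.
-/

set_option autoImplicit false
set_option backward.isDefEq.respectTransparency false
set_option linter.style.haveILetI false
set_option linter.unusedSectionVars false
universe u

open CategoryTheory CategoryTheory.Limits AlgebraicGeometry TopologicalSpace Groth.L22
open Groth.L13.CurveContr (false_of_chain exists_specializes_special ker_ideal_zeros)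
open Groth.L00.Tensor (tensorIso tensorComm)

noncomputable section

namespace Groth.L05.Models.UnitDivisor

open Groth.L05.FibreDecomp

variable {R : Type u} [CommRing R] [IsDomain R] [IsDiscreteValuationRing R]
  (X : Over (Spec (CommRingCat.of R))) [IsIntegral X.left] [IsProper X.hom] [Flat X.hom]

/-- A function whose zeros on an affine open meet the closed fibre in one point cuts out, near that point, an
effective divisor closed in the whole scheme. -/
theorem exists_divisor_of_equation [HenselianLocalRing R] (hdim : topologicalKrullDim X.left = 2)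
    {x : X.left} (hxs : X.hom x = IsLocalRing.closedPoint R) {V : X.left.Opens} (hV : IsAffineOpen V)
    {f : Γ(X.left, V)} (hf0 : f ≠ 0) (hxV : x ∈ V) (hxf : x ∉ X.left.basicOpen f)
    (hiso : ∀ y ∈ V, y ∉ X.left.basicOpen f → X.hom y = IsLocalRing.closedPoint R → y = x) :
    ∃ (D : X.left.IdealSheafData), BlowUp.IsEffCartierIdeal D ∧
      (D.support : Set X.left) ∩ Models.specialFibreSet R X = {x} ∧
      ∃ (U : X.left.affineOpens) (hxU : x ∈ U.1) (hUV : U.1 ≤ V),
        D.ideal U = Ideal.span {X.left.presheaf.map (homOfLE hUV).op f} := by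
  classical
  haveI : IsLocallyNoetherian X.left := LocallyOfFiniteType.isLocallyNoetherian X.hom
  haveI : X.left.IsSeparated := ⟨by rw [← terminal.comp_from X.hom]; infer_instance⟩
  haveI : IsNoetherianRing Γ(X.left, V) := IsLocallyNoetherian.component_noetherian ⟨V, hV⟩
  let mk := CommRingCat.ofHom (Ideal.Quotient.mk (Ideal.span {f}))
  haveI : IsClosedImmersion (Spec.map mk) :=
    IsClosedImmersion.spec_of_surjective mk Ideal.Quotient.mk_surjective
  let i := Spec.map mk ≫ hV.fromSpec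
  have hrange : ∀ y, y ∈ Set.range i ↔ y ∈ V ∧ y ∉ X.left.basicOpen f := by
    intro y
    constructor
    · rintro ⟨z, rfl⟩
      refine ⟨hV.range_fromSpec.le ⟨_, rfl⟩, fun h => ?_⟩
      have h' : Spec.map mk z ∈ hV.fromSpec ⁻¹ᵁ X.left.basicOpen f := h
      rw [hV.fromSpec_preimage_basicOpen] at h'
      refine h' ?_
      show Ideal.Quotient.mk (Ideal.span {f}) f ∈ z.asIdeal
      rw [Ideal.Quotient.eq_zero_iff_mem.2 (Ideal.mem_span_singleton_self f)]
      exact zero_mem _
    · rintro ⟨hy, hyf⟩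
      obtain ⟨a, rfl⟩ : y ∈ Set.range hV.fromSpec := by rw [hV.range_fromSpec]; exact hy
      have ha : f ∈ a.asIdeal := by
        by_contra hc
        refine hyf (show a ∈ hV.fromSpec ⁻¹ᵁ X.left.basicOpen f from ?_)
        rw [hV.fromSpec_preimage_basicOpen]
        exact hc
      obtain ⟨z, hz⟩ : a ∈ Set.range (PrimeSpectrum.comap (Ideal.Quotient.mk (Ideal.span {f}))) := by
        rw [range_comap_of_surjective _ _ Ideal.Quotient.mk_surjective, Ideal.mk_ker]
        show (Ideal.span {f} : Set Γ(X.left, V)) ⊆ a.asIdeal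
        exact (Ideal.span_singleton_le_iff_mem _).2 ha
      exact ⟨z, congrArg hV.fromSpec hz⟩
  have hij : Function.Injective i := hV.fromSpec.isOpenEmbedding.injective.comp (Spec.map mk).isClosedEmbedding.injective
  let π := i ≫ X.hom
  haveI : Nonempty V := ⟨⟨x, hxV⟩⟩
  have hξf : genericPoint X.left ∈ X.left.basicOpen f :=
    ((genericPoint_spec X.left).mem_open_set_iff (X.left.basicOpen f).2).2 (by
      rw [Set.univ_inter]
      exact (Opens.ne_bot_iff_nonempty _).1 fun h => hf0 ((basicOpen_eq_bot_iff f).1 h))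
  have hgen : ∀ z z', π z ≠ IsLocalRing.closedPoint R → z' ⤳ z → z' = z := fun z z' hz hz' => by
    by_contra hne
    obtain ⟨c, hc, hcs⟩ := exists_specializes_special X (i z)
    exact false_of_chain hdim (genericPoint_specializes (i z'))
      (fun e => ((hrange _).1 ⟨z', rfl⟩).2 (e ▸ hξf)) (hz'.map i.continuous)
      (fun e => hne (hij e)) hc fun e => hz ((congrArg X.hom e).trans hcs)
  haveI : LocallyQuasiFinite π := by
    refine LocallyQuasiFinite.of_finite_preimage_singleton π fun p => ?_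
    by_cases hp : p = IsLocalRing.closedPoint R
    · refine Set.Subsingleton.finite fun z hz z' hz' => hij ?_
      obtain ⟨h1, h2⟩ := (hrange _).1 ⟨z, rfl⟩
      obtain ⟨h1', h2'⟩ := (hrange _).1 ⟨z', rfl⟩
      rw [hiso _ h1 h2 (hp ▸ hz), hiso _ h1' h2' (hp ▸ hz')]
    · refine Set.Finite.subset (NoetherianSpace.finite_irreducibleComponents.dependent_image
        fun Z hZ => (hZ.1 : IsIrreducible Z).genericPoint) fun z hz => ?_
      refine ⟨irreducibleComponent z, irreducibleComponent_mem_irreducibleComponents z, ?_⟩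
      refine hgen z _ ((hz : π z = p).trans_ne hp) ?_
      rw [specializes_iff_mem_closure, IsIrreducible.genericPoint_closure_eq, isClosed_irreducibleComponent.closure_eq]
      exact mem_irreducibleComponent
  haveI : IsSeparated π := inferInstance
  obtain ⟨W, ⟨hWc, hWf, hWx⟩, -⟩ := Groth.Agent.S17447.result R π
  haveI := hWf
  let d := W.ι ≫ i
  haveI : IsProper (d ≫ X.hom) := by
    rw [show d ≫ X.hom = W.ι ≫ π from Category.assoc _ _ _]
    infer_instance
  haveI : IsProper d := IsProper.of_comp d X.hom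
  haveI : IsClosedImmersion d := IsClosedImmersion.of_isPreimmersion _ d.isClosedMap.isClosed_range
  obtain ⟨zx, hzx⟩ := (hrange x).2 ⟨hxV, hxf⟩
  have hzxW : zx ∈ W := hWx zx ((congrArg X.hom hzx).trans hxs)
  have hsp : ∀ p : W.toScheme, (d ≫ X.hom) p = IsLocalRing.closedPoint R → d p = x := fun p hp => by
    obtain ⟨h1, h2⟩ := (hrange _).1 ⟨p.1, rfl⟩
    exact hiso _ h1 h2 hp
  have hker : ∀ p : W.toScheme, ∃ (U : X.left.affineOpens) (hUV : U.1 ≤ V), d p ∈ U.1 ∧
      d.ker.ideal U = Ideal.span {X.left.presheaf.map (homOfLE hUV).op f} := fun p => by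
    obtain ⟨O, hO, hOeq⟩ := (Spec.map mk ≫ hV.fromSpec).isEmbedding.isInducing.isOpen_iff.1 W.2
    obtain ⟨h, hhle, hhy⟩ := hV.exists_basicOpen_le (V := V ⊓ ⟨O, hO⟩)
      ⟨d p, hV.range_fromSpec.le ⟨_, rfl⟩, hOeq.ge p.2⟩ (hV.range_fromSpec.le ⟨_, rfl⟩)
    let U : X.left.affineOpens := ⟨X.left.basicOpen h, hV.basicOpen h⟩
    have hUV : U.1 ≤ V := X.left.basicOpen_le h
    refine ⟨U, hUV, hhy, ?_⟩
    have hpre : i ⁻¹ᵁ U.1 ≤ W := fun z hz => hOeq.le (hhle hz).2
    haveI : IsIso (W.ι.app (i ⁻¹ᵁ U.1)) := W.ι.isIso_app _ (by simpa using hpre)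
    rw [Scheme.Hom.ker_apply, show RingHom.ker (d.app U.1).hom = RingHom.ker (i.app U.1).hom from ?_,
      ← Scheme.Hom.ker_apply, ← i.ker.map_ideal (U := U) (V := ⟨V, hV⟩) hUV, ker_ideal_zeros ⟨V, hV⟩ f,
      Ideal.map_span, Set.image_singleton]
    · rfl
    show RingHom.ker ((W.ι.app (i ⁻¹ᵁ U.1)).hom.comp (i.app U.1).hom) = _
    exact RingHom.ker_equiv_comp _ (asIso (W.ι.app (i ⁻¹ᵁ U.1))).commRingCatIsoToRingEquiv
  refine ⟨d.ker, fun y => ?_, ?_, ?_⟩
  · by_cases hy : y ∈ Set.range d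
    swap
    · obtain ⟨U, hU, hyU, hle⟩ := exists_isAffineOpen_mem_and_subset (x := y)
        (U := (⟨(Set.range d)ᶜ, d.isClosedMap.isClosed_range.isOpen_compl⟩ : X.left.Opens)) hy
      refine ⟨⟨U, hU⟩, hyU, 1, one_mem _, ?_⟩
      rw [Ideal.span_singleton_one, Scheme.Hom.ker_apply]
      haveI : Subsingleton Γ(W.toScheme, d ⁻¹ᵁ U) := by
        rw [show d ⁻¹ᵁ U = ⊥ from bot_unique fun z hz => hle hz ⟨z, rfl⟩]
        infer_instance
      exact (Ideal.eq_top_iff_one _).2 (Subsingleton.elim _ _)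
    obtain ⟨p, rfl⟩ := hy
    obtain ⟨U, hUV, hpU, hid⟩ := hker p
    haveI : Nonempty U.1 := ⟨⟨_, hpU⟩⟩
    refine ⟨U, hpU, X.left.presheaf.map (homOfLE hUV).op f, mem_nonZeroDivisors_of_ne_zero fun h0 => hf0 ?_, hid⟩
    refine germ_injective_of_isIntegral X.left (d p) (hUV hpU) ?_
    rw [← X.left.presheaf.germ_res_apply (homOfLE hUV) (d p) hpU f, h0, map_zero, map_zero]
  · rw [Scheme.Hom.support_ker]
    show closure (Set.range d) ∩ _ = _
    rw [d.isClosedMap.isClosed_range.closure_eq]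
    refine Set.Subset.antisymm ?_ (Set.singleton_subset_iff.2 ⟨⟨⟨zx, hzxW⟩, hzx⟩, hxs⟩)
    rintro _ ⟨⟨p, rfl⟩, hp⟩
    exact hsp p hp
  · obtain ⟨U, hUV, hxU, hid⟩ := hker ⟨zx, hzxW⟩
    exact ⟨U, hzx ▸ hxU, hUV, hid⟩

/-- A divisor of degree one on a given component and zero on the others. -/
theorem exists_inter_eq_ite [HenselianLocalRing R] [IsAlgClosed (IsLocalRing.ResidueField R)]
    (hdim : topologicalKrullDim X.left = 2) {n : ℕ} (Γ : Fin n → ArSurf.VertComp R X)
    (hΓ : Models.IsComponentList R X Γ) (i : Fin n) :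
    ∃ M : X.left.Modules, PicF.IsInvertible M ∧
      ∀ j : Fin n, ArSurf.inter R X M (Γ j) = if j = i then 1 else 0 := by
  classical
  haveI : IsLocallyNoetherian X.left := LocallyOfFiniteType.isLocallyNoetherian X.hom
  haveI := Groth.L05.InterPair.isProper_curve (Γ i)
  haveI := Groth.L21.RR.isNoetherian_of_proper (X := (Γ i).curve.left) (IsLocalRing.ResidueField R)
  let ι := (Γ i).ι
  -- away from the other components
  let O : Set X.left := (⋃ j ∈ {j | j ≠ i}, Set.range ((Γ j).ι.base : (Γ j).curve.left → X.left))ᶜ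
  have hO : IsOpen O := ((Set.toFinite _).isClosed_biUnion
    fun j _ => (Γ j).ι.isClosedEmbedding.isClosed_range).isOpen_compl
  have hgO : Models.genPtOf R X (Γ i) ∈ O := fun h => by
    obtain ⟨j, hj, hgj⟩ := Set.mem_iUnion₂.1 h
    exact hj (eq_of_genPtOf_mem hΓ (by rw [support_ker]; exact hgj)).symm
  obtain ⟨z, hzO, hzc, hzne, hzp⟩ := Groth.L22.CurveDeg.exists_regular_point_mem
    (X := (Γ i).curve.left) (k := IsLocalRing.ResidueField R) (Γ i).dim_eq
    (ι ⁻¹ᵁ (⟨O, hO⟩ : X.left.Opens)) hgO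
  have hfib : ∀ (j : Fin n) (w : (Γ j).curve.left), (Γ j).ι w ∈ Models.specialFibreSet R X := fun j w =>
    (show Set.range ((Γ j).ι.base : (Γ j).curve.left → X.left) ∈ Models.fibreComponents R X from
      hΓ.2 ▸ ⟨j, rfl⟩).1.2 ⟨w, rfl⟩
  -- a lift of a parameter
  obtain ⟨ū, hū⟩ := hzp
  change IsLocalRing.maximalIdeal _ = Ideal.span {ū} at hū
  have hū0 : ū ≠ 0 := fun h0 => by
    have h1 := Groth.L03.BlowPt.Factor.dim_add_one_le (genericPoint_specializes z) hzne.symm
    have hF : IsField ((Γ i).curve.left.presheaf.stalk z) := by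
      rw [IsLocalRing.isField_iff_maximalIdeal_eq, hū, h0, Ideal.span_singleton_eq_bot]
    rw [ringKrullDim_eq_zero_of_isField hF] at h1
    have h2 : (0 : WithBot ℕ∞) + 1 ≤ 0 :=
      le_trans (add_le_add ringKrullDim_nonneg_of_nontrivial le_rfl) h1
    exact absurd h2 (by decide)
  obtain ⟨u, hu⟩ := ι.stalkMap_surjective z ū
  obtain ⟨V₀, hV₀, hxV₀, hV₀O⟩ := exists_isAffineOpen_mem_and_subset (U := (⟨O, hO⟩ : X.left.Opens)) (x := ι z) hzO
  letI : Algebra Γ(X.left, V₀) (X.left.presheaf.stalk (ι z)) := (X.left.presheaf.germ V₀ (ι z) hxV₀).hom.toAlgebra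
  haveI : IsLocalization.AtPrime (X.left.presheaf.stalk (ι z)) (hV₀.primeIdealOf ⟨ι z, hxV₀⟩).asIdeal :=
    hV₀.isLocalization_stalk ⟨ι z, hxV₀⟩
  obtain ⟨b, s, hbs⟩ := IsLocalization.exists_mk'_eq (hV₀.primeIdealOf ⟨ι z, hxV₀⟩).asIdeal.primeCompl u
  let w : Γ((Γ i).curve.left, ι ⁻¹ᵁ V₀) := ι.app V₀ b
  have hw : Ideal.span {(Γ i).curve.left.presheaf.germ (ι ⁻¹ᵁ V₀) z hxV₀ w} =
      IsLocalRing.maximalIdeal ((Γ i).curve.left.presheaf.stalk z) := by
    have h1 : (Γ i).curve.left.presheaf.germ (ι ⁻¹ᵁ V₀) z hxV₀ w =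
        ι.stalkMap z (algebraMap Γ(X.left, V₀) _ b) := (Scheme.Hom.germ_stalkMap_apply ι V₀ z hxV₀ b).symm
    have h2 : algebraMap Γ(X.left, V₀) (X.left.presheaf.stalk (ι z)) b =
        u * algebraMap Γ(X.left, V₀) _ (s : Γ(X.left, V₀)) := by
      rw [← hbs, IsLocalization.mk'_spec]
    rw [h1, h2, map_mul, hu, Ideal.span_singleton_mul_right_unit
      ((IsLocalization.map_units (X.left.presheaf.stalk (ι z)) s).map (ι.stalkMap z).hom), hū]
  -- the other zeros on the component
  let Z : Set (Γ i).curve.left := {y | y ∈ ι ⁻¹ᵁ V₀ ∧ y ∉ (Γ i).curve.left.basicOpen w ∧ y ≠ z}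
  haveI : Nonempty (ι ⁻¹ᵁ V₀ : (Γ i).curve.left.Opens) := ⟨⟨z, hxV₀⟩⟩
  have hgw : genericPoint (Γ i).curve.left ∈ (Γ i).curve.left.basicOpen w :=
    ((genericPoint_spec (Γ i).curve.left).mem_open_set_iff ((Γ i).curve.left.basicOpen w).2).2 (by
      rw [Set.univ_inter]
      refine (Opens.ne_bot_iff_nonempty _).1 fun h => hū0 ?_
      have hw0 : w = 0 := (basicOpen_eq_bot_iff w).1 h
      have h3 := hw
      rw [hw0, map_zero, hū] at h3
      exact Ideal.span_singleton_eq_bot.1 (h3.symm.trans (by simp)))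
  have hZfin : Z.Finite := by
    refine Set.Finite.subset (Groth.L18.Curve.finite_of_forall_isClosed
      ((Γ i).curve.left.basicOpen w).2.isClosed_compl fun y hy =>
        Groth.L05.ProjLines.isClosed_of_ne_generic (Γ i).dim_eq.le fun e => hy (e ▸ hgw)) fun y hy => hy.2.1
  have hZc : IsClosed (ι '' Z) := by
    rw [← Set.biUnion_of_singleton Z, Set.image_iUnion₂]
    refine hZfin.isClosed_biUnion fun y hy => ?_
    refine ι.isClosedEmbedding.isClosedMap _ (Groth.L05.ProjLines.isClosed_of_ne_generic (Γ i).dim_eq.le ?_)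
    exact fun e => hy.2.1 (e ▸ hgw)
  obtain ⟨V, hV, hxV, hVle⟩ := exists_isAffineOpen_mem_and_subset (x := ι z)
    (U := V₀ ⊓ (⟨(ι '' Z)ᶜ, hZc.isOpen_compl⟩ : X.left.Opens))
    ⟨hxV₀, fun ⟨y, hy, hyz⟩ => hy.2.2 (ι.isClosedEmbedding.injective hyz)⟩
  have hVV₀ : V ≤ V₀ := fun y hy => (hVle hy).1
  let f := X.left.presheaf.map (homOfLE hVV₀).op b
  have hgermw : ∀ (y : (Γ i).curve.left) (hy : ι y ∈ V₀),
      y ∈ (Γ i).curve.left.basicOpen w ↔ ι y ∈ X.left.basicOpen b := fun y hy => by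
    rw [show (Γ i).curve.left.basicOpen w = ι ⁻¹ᵁ X.left.basicOpen b from (Scheme.preimage_basicOpen ι b).symm]
    rfl
  have hbo : ∀ y ∈ V, y ∉ X.left.basicOpen f ↔ y ∉ X.left.basicOpen b := fun y hy => by
    rw [Scheme.basicOpen_res]
    exact ⟨fun h h' => h ⟨hy, h'⟩, fun h h' => h h'.2⟩
  have hzw : z ∉ (Γ i).curve.left.basicOpen w := fun h => by
    have h3 := (Scheme.mem_basicOpen (Γ i).curve.left w z hxV₀).1 h
    rw [← Ideal.span_singleton_eq_top, hw] at h3
    exact (IsLocalRing.maximalIdeal.isMaximal _).ne_top h3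
  have hxf : ι z ∉ X.left.basicOpen f := (hbo _ hxV).2 fun h => hzw ((hgermw z hxV₀).2 h)
  have hf0 : f ≠ 0 := fun h0 => hū0 (by
    have h4 : X.left.presheaf.germ V₀ (ι z) hxV₀ b = 0 := by
      rw [← X.left.presheaf.germ_res_apply (homOfLE hVV₀) (ι z) hxV b]
      show X.left.presheaf.germ V (ι z) hxV f = 0
      rw [h0, map_zero]
    have h3 := hw
    rw [show (Γ i).curve.left.presheaf.germ (ι ⁻¹ᵁ V₀) z hxV₀ w = 0 by
      rw [← Scheme.Hom.germ_stalkMap_apply ι V₀ z hxV₀ b, h4, map_zero], hū] at h3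
    exact Ideal.span_singleton_eq_bot.1 (h3.symm.trans (by simp)))
  have hiso : ∀ y ∈ V, y ∉ X.left.basicOpen f → X.hom y = IsLocalRing.closedPoint R → y = ι z := by
    intro y hyV hyf hys
    obtain ⟨j, hj⟩ := exists_component hΓ (x := y) hys
    obtain rfl : j = i := by
      by_contra hne
      exact hV₀O (hVV₀ hyV) (Set.mem_iUnion₂.2 ⟨j, hne, hj⟩)
    obtain ⟨c, rfl⟩ := hj
    by_contra hne
    exact (hVle hyV).2 ⟨c, ⟨hVV₀ hyV, fun h => (hbo _ hyV).1 hyf ((hgermw c (hVV₀ hyV)).1 h),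
      fun e => hne (congrArg (Γ j).ι e)⟩, rfl⟩
  obtain ⟨D, hD, hsupp, U, hxU, hUV, hDU⟩ :=
    exists_divisor_of_equation X hdim (hfib i z) hV hf0 hxV hxf hiso
  obtain ⟨L, hLi, ⟨eL⟩⟩ := Groth.L08.Cube.exists_inverse
    ((Groth.Agent.L19.IdealInvertible.isEffCartier_iff D).2 hD)
  have hL : ClSub.IsInverseOf L (ClSub.idealMod D) := ⟨tensorComm _ _ ≪≫ eL⟩
  have hout : ∀ (j : Fin n) (y : (Γ j).curve.left), (Γ j).ι y ∈ (D.support : Set X.left) → (Γ j).ι y = ι z :=
    fun j y hy => hsupp.le ⟨hy, hfib j y⟩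
  refine ⟨L, hLi, fun j => ?_⟩
  haveI := Groth.L05.InterPair.isProper_curve (Γ j)
  rcases eq_or_ne j i with rfl | hji
  swap
  · rw [if_neg hji, Groth.L05.InterPair.inter_eq_finrank (Γ j) hD ?_ hL, Nat.cast_eq_zero,
      Groth.L05.InterPair.finrank_eq_zero_iff]
    · refine ⟨fun e => ?_⟩
      have h5 : (D.comap (Γ j).ι).subschemeι e ∈ ((D.comap (Γ j).ι).support : Set (Γ j).curve.left) := by
        rw [← Scheme.IdealSheafData.range_subschemeι]; exact ⟨e, rfl⟩
      rw [Scheme.IdealSheafData.support_comap] at h5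
      exact hzO (Set.mem_iUnion₂.2 ⟨j, hji, _, hout j _ h5⟩)
    · intro hg
      exact hzO (Set.mem_iUnion₂.2 ⟨j, hji, _, hout j (genericPoint _) hg⟩)
  rw [if_pos rfl]
  have hη : Models.genPtOf R X (Γ j) ∉ (D.support : Set X.left) := fun hg =>
    hzne ((Γ j).ι.isClosedEmbedding.injective (hout j (genericPoint _) hg)).symm
  have hE := Groth.L05.InterPair.isEffCartier_comap ι hD hη
  have hEeq : D.comap ι = Scheme.IdealSheafData.vanishingIdeal ⟨{z}, hzc⟩ := by
    have hsE : ((D.comap ι).support : Set (Γ j).curve.left) = {z} := by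
      rw [Scheme.IdealSheafData.support_comap]
      refine Set.Subset.antisymm (fun y hy => ?_) (Set.singleton_subset_iff.2 ?_)
      · exact (Γ j).ι.isClosedEmbedding.injective (hout j y hy)
      · exact ((hsupp.ge rfl).1 : ι z ∈ (D.support : Set X.left))
    refine ext_of_stalkIdeal _ fun W y hy => ?_
    by_cases hyz : y = z
    swap
    · rw [stalkIdeal_eq_top _ W y hy (by rw [hsE]; exact hyz),
        stalkIdeal_eq_top _ W y hy (by rw [Groth.L18.support_vanishingIdeal]; exact hyz)]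
    subst hyz
    rw [show Div.stalkIdeal (Scheme.IdealSheafData.vanishingIdeal ⟨{y}, hzc⟩) W y hy =
      IsLocalRing.maximalIdeal _ from Groth.L21.RR.map_vanishingIdeal_point hzc W.2 hy]
    obtain ⟨W', hW', hyW', hW'le⟩ := exists_isAffineOpen_mem_and_subset (x := y)
      (U := W.1 ⊓ ι ⁻¹ᵁ U.1) ⟨hy, hxU⟩
    have h6 : W' ≤ W.1 := fun a ha => (hW'le ha).1
    have h7 : W' ≤ ι ⁻¹ᵁ U.1 := fun a ha => (hW'le ha).2
    have h8 : Div.stalkIdeal (D.comap ι) W y hy = Div.stalkIdeal (D.comap ι) ⟨W', hW'⟩ y hyW' := by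
      rw [Div.stalkIdeal, Div.stalkIdeal, ← (D.comap ι).map_ideal (U := ⟨W', hW'⟩) (V := W) h6, Ideal.map_map,
        ← CommRingCat.hom_comp]
      exact congrArg (fun φ => Ideal.map φ ((D.comap ι).ideal W))
        (congrArg CommRingCat.Hom.hom (TopCat.Presheaf.germ_res (Γ j).curve.left.presheaf (homOfLE h6) y hyW').symm)
    rw [h8, Div.stalkIdeal, Groth.L22.Ideals.comap_ideal ι D U ⟨W', hW'⟩ h7, hDU, Ideal.map_span,
      Set.image_singleton, Ideal.map_span, Set.image_singleton, ← hw]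
    congr 2
    rw [Scheme.Hom.appLE, CommRingCat.comp_apply, TopCat.Presheaf.germ_res_apply]
    rw [← Scheme.Hom.germ_stalkMap_apply ι U.1 y hxU, ← Scheme.Hom.germ_stalkMap_apply ι V₀ y hxV₀ b]
    congr 1
    exact (X.left.presheaf.germ_res_apply (homOfLE hUV) (ι y) hxU f).trans
      (X.left.presheaf.germ_res_apply (homOfLE hVV₀) (ι y) hxV b)
  have hDi := (Groth.Agent.L19.IdealInvertible.isEffCartier_iff D).2 hD
  have hEi := (Groth.Agent.L19.IdealInvertible.isEffCartier_iff _).2 hE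
  obtain ⟨α, -, hαepi, -⟩ := Groth.L07.PrinParts.exists_idealMap ι D (D.comap ι) rfl
  haveI := hαepi
  haveI : IsIso α :=
    Groth.L03.InterLen.isIso_of_epi_invertible α (Groth.L18.Ample.isInvertible_pullback ι hDi) hEi
  obtain ⟨e⟩ := hL
  rw [ArSurf.inter, Groth.L05.InterPair.curveDeg_of_inverse (IsLocalRing.ResidueField R) (Γ j).dim_eq hEi
      ⟨tensorIso (Iso.refl _) (asIso α).symm ≪≫
        Groth.L29.DC.PullTensor.pullTensor ι L (ClSub.idealMod D) ≪≫
        (Scheme.Modules.pullback ι).mapIso e ≪≫ Groth.L29.LocFree.pullbackUnitIso ι⟩,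
    Groth.L05.InterPair.curveDeg_eq_euler (IsLocalRing.ResidueField R) (Γ j).dim_eq, hEeq]
  have h9 := Groth.L21.PointIdeal.euler_eq (X := (Γ j).curve.left) hzc (IsLocalRing.ResidueField R) (Γ j).dim_eq.le
  show -(Curv2.euler _ _ (Groth.L21.PointIdeal.mI hzc) - _) = 1
  rw [h9]
  ring

end Groth.L05.Models.UnitDivisor
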